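import Cfsg.Agent.Leech.PairsEight
import Cfsg.Agent.Leech.OrbitCert
import Cfsg.Agent.StemCert.Count

/-!
A subgroup of the automorphism group of the lattice as permutations of a finite set of vectors
given by coordinate lists.
-/

set_option autoImplicit false

namespace Cfsg.Agent.LeechModel

open Cfsg Cfsg.Agent.Leech Cfsg.Agent.Compute

/-- Coordinates packed in fields of width four starting at bit sixteen. -/
noncomputable def coords (c : ℕ) : List ℤ :=
  (List.range 24).map fun k => Int.ofNat (getField 4 (Nat.shiftRight c 16) k) - 8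

/-- Packing of coordinates. -/
noncomputable def packCoords (l : List ℤ) : ℕ :=
  List.rec (motive := fun _ => ℕ) 0 (fun a _ r => Nat.add (a + 8).toNat (Nat.shiftLeft r 4)) l

/-- The data of a finite set of vectors with two fixed vectors. -/
structure Frame where
  /-- the first fixed vector -/
  v : leechLattice
  /-- the second fixed vector -/
  w : leechLattice
  /-- the scalar product with the second vector -/
  d : ℤ
  /-- the number of points -/
  n : ℕ
  /-- the packed coordinates of the points -/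
  pts : List ℕ

variable (M : Frame)

/-- The set of vectors. -/
def Frame.X : Set leechLattice :=
  {x | x ∈ layer 32 ∧ dotInt (M.v : GolayPt → ℤ) (x : GolayPt → ℤ) = 24 ∧
    dotInt (M.w : GolayPt → ℤ) (x : GolayPt → ℤ) = M.d}

/-- The coordinate list of a point. -/
noncomputable def Frame.crd (i : ℕ) : List ℤ := coords (M.pts.getD i 0)

/-- The coordinate function of a point. -/
noncomputable def Frame.fn (i : ℕ) : GolayPt → ℤ := ofL (M.crd i)

/-- The checks on the list of points. -/
structure Frame.Good : Prop where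
  parity : ∀ (i : Fin M.n) (p : GolayPt), M.fn i p = M.fn i none + 2 * ((M.fn i p - M.fn i none) / 2)
  sums : ∀ i : Fin M.n, (8 : ℤ) ∣ (∑ p, M.fn i p) - 4 * M.fn i none
  code : ∀ i : Fin M.n, dec (red2 fun p => (M.fn i p - M.fn i none) / 2) =
    red2 fun p => (M.fn i p - M.fn i none) / 2
  norm : ∀ i : Fin M.n, sqNorm (M.fn i) = 32
  dotv : ∀ i : Fin M.n, dotInt (M.v : GolayPt → ℤ) (M.fn i) = 24
  dotw : ∀ i : Fin M.n, dotInt (M.w : GolayPt → ℤ) (M.fn i) = M.d
  list : ∀ i : Fin M.n, toL (M.fn i) = M.crd i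
  packed : ∀ i : Fin M.n, packCoords (M.crd i) = Nat.shiftRight (M.pts.getD i 0) 16
  length : M.pts.length = M.n
  nodup : (M.pts.map fun c => Nat.shiftRight c 16).Nodup
  count : M.X.ncard = M.n

variable {M}

theorem Frame.Good.mem (h : M.Good) (i : Fin M.n) : M.fn i ∈ leechLattice :=
  mem_of_parity _ _ (h.parity i) (h.sums i) (h.code i)

/-- A point as an element of the set. -/
noncomputable def Frame.Good.point (h : M.Good) (i : Fin M.n) : M.X :=
  ⟨⟨M.fn i, h.mem i⟩, h.norm i, h.dotv i, h.dotw i⟩

theorem Frame.Good.toL_point (h : M.Good) (i : Fin M.n) :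
    toL ((h.point i : leechLattice) : GolayPt → ℤ) = M.crd i := h.list i

theorem Frame.Good.point_injective (h : M.Good) : Function.Injective h.point := fun i j e => by
  have hc : packCoords (M.crd i) = packCoords (M.crd j) := by
    rw [← h.toL_point i, ← h.toL_point j, e]
  rw [h.packed i, h.packed j] at hc
  have hi : (i : ℕ) < (M.pts.map fun c => Nat.shiftRight c 16).length := by
    rw [List.length_map, h.length]; exact i.2
  have hj : (j : ℕ) < (M.pts.map fun c => Nat.shiftRight c 16).length := by
    rw [List.length_map, h.length]; exact j.2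
  refine Fin.ext ((h.nodup.getElem_inj_iff (hi := hi) (hj := hj)).mp ?_)
  rw [List.length_map] at hi hj
  rw [List.getD_eq_getElem _ _ hi, List.getD_eq_getElem _ _ hj] at hc
  simpa using hc

theorem Frame.Good.finite (h : M.Good) (hn : 0 < M.n) : Finite M.X :=
  (Set.finite_of_ncard_ne_zero (by rw [h.count]; omega)).to_subtype

/-- The numbering of the set. -/
noncomputable def Frame.Good.equiv (h : M.Good) (hn : 0 < M.n) : Fin M.n ≃ M.X :=
  haveI := h.finite hn
  Equiv.ofBijective h.point ((Nat.bijective_iff_injective_and_card _).mpr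
    ⟨h.point_injective, by rw [Nat.card_fin, Nat.card_coe_set_eq, h.count]⟩)

theorem Frame.Good.equiv_apply (h : M.Good) (hn : 0 < M.n) (i : Fin M.n) :
    h.equiv hn i = h.point i := rfl

/-- A subgroup fixing both vectors. -/
structure Frame.Acts (M : Frame) (H : Subgroup (Equiv.Perm leechLattice)) : Prop where
  le : H ≤ Co0
  fixv : ∀ g ∈ H, g M.v = M.v
  fixw : ∀ g ∈ H, g M.w = M.w

variable {H : Subgroup (Equiv.Perm leechLattice)}

theorem Frame.Acts.dot (ha : M.Acts H) {g : Equiv.Perm leechLattice} (hg : g ∈ H)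
    (a b : leechLattice) :
    dotInt ((g a : leechLattice) : GolayPt → ℤ) ((g b : leechLattice) : GolayPt → ℤ) =
      dotInt (a : GolayPt → ℤ) (b : GolayPt → ℤ) :=
  dotInt_smul (⟨g, ha.le hg⟩ : ↥Co0) a b

theorem Frame.Acts.maps (ha : M.Acts H) {g : Equiv.Perm leechLattice} (hg : g ∈ H) {x : leechLattice}
    (hx : x ∈ M.X) : g x ∈ M.X := by
  obtain ⟨h1, h2, h3⟩ := hx
  refine ⟨?_, ?_, ?_⟩
  · show sqNorm ((g x : leechLattice) : GolayPt → ℤ) = 32
    rw [show sqNorm ((g x : leechLattice) : GolayPt → ℤ) = sqNorm (x : GolayPt → ℤ) from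
      (ha.le hg).2 x]
    exact h1
  · conv_lhs => rw [← ha.fixv g hg]
    rw [ha.dot hg]; exact h2
  · conv_lhs => rw [← ha.fixw g hg]
    rw [ha.dot hg]; exact h3

/-- The permutation of the set induced by an element. -/
noncomputable def Frame.Acts.permX (ha : M.Acts H) (g : H) : Equiv.Perm M.X where
  toFun x := ⟨(g : Equiv.Perm leechLattice) x, ha.maps g.2 x.2⟩
  invFun x := ⟨((g⁻¹ : H) : Equiv.Perm leechLattice) x, ha.maps (g⁻¹).2 x.2⟩
  left_inv x := Subtype.ext (by simp)
  right_inv x := Subtype.ext (by simp)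

/-- The permutation representation on the points. -/
noncomputable def Frame.Acts.rep (ha : M.Acts H) (h : M.Good) (hn : 0 < M.n) :
    H →* Equiv.Perm (Fin M.n) :=
  (Equiv.permCongrHom (h.equiv hn).symm).toMonoidHom.comp
    (MonoidHom.mk' ha.permX fun _ _ => Equiv.ext fun _ => Subtype.ext rfl)

theorem Frame.Acts.point_rep (ha : M.Acts H) (h : M.Good) (hn : 0 < M.n) (g : H) (i : Fin M.n) :
    (h.point (ha.rep h hn g i) : leechLattice) = (g : Equiv.Perm leechLattice) (h.point i) := by
  rw [← h.equiv_apply hn (ha.rep h hn g i)]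
  show ((h.equiv hn ((h.equiv hn).symm (ha.permX g (h.equiv hn i)))) : leechLattice) = _
  rw [Equiv.apply_symm_apply]
  rfl

/-- A code describes a listed lattice automorphism. -/
noncomputable def Frame.genB (M : Frame) (wd : ℕ) (f : List ℤ → List ℤ) (c : ℕ) : Bool :=
  allBelow M.n fun i => Nat.blt (getField wd c i) M.n &&
    decide (f (M.crd i) = M.crd (getField wd c i))

theorem Frame.Acts.rep_gen (ha : M.Acts H) (h : M.Good) (hn : 0 < M.n) (a : LGen)
    (hmem : (a.g : Equiv.Perm leechLattice) ∈ H) {wd c : ℕ} (hc : M.genB wd a.f c = true)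
    (i : Fin M.n) : (ha.rep h hn ⟨_, hmem⟩ i : ℕ) = getField wd c i := by
  have hi := allBelow_eq_true.mp hc i i.2
  simp only [Bool.and_eq_true, Nat.blt_eq, decide_eq_true_eq] at hi
  have e : h.point (ha.rep h hn ⟨_, hmem⟩ i) = h.point ⟨_, hi.1⟩ := by
    refine Subtype.ext (Subtype.ext (toL_injective ?_))
    rw [ha.point_rep h hn, h.toL_point ⟨_, hi.1⟩]
    show toL (((a.g • (h.point i : leechLattice)) : leechLattice) : GolayPt → ℤ) = _
    rw [a.spec, h.toL_point]
    exact hi.2
  exact congrArg Fin.val (h.point_injective e)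

theorem fix_of_toL (a : LGen) (u : leechLattice) (h : a.f (toL (u : GolayPt → ℤ)) = toL (u : GolayPt → ℤ)) :
    (a.g : Equiv.Perm leechLattice) u = u :=
  Subtype.ext (toL_injective ((a.spec u).trans h))

/-- A combination of the points and the two vectors, at one coordinate. -/
noncomputable def Frame.combAt (M : Frame) (cv cw : ℤ) (cs : List (ℕ × ℤ)) (p : GolayPt) : ℤ :=
  cv * (M.v : GolayPt → ℤ) p + cw * (M.w : GolayPt → ℤ) p +
    (cs.map fun t => t.2 * ofL (coords (M.pts.getD t.1 0)) p).sum

/-- Certificate that the points and the two vectors span. -/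
structure Frame.Span (M : Frame) (K : ℤ) (comb : GolayPt → ℤ × ℤ × List (ℕ × ℤ)) : Prop where
  ne : K ≠ 0
  idx : ∀ p, ∀ t ∈ (comb p).2.2, t.1 < M.n
  eq : ∀ p q, M.combAt (comb p).1 (comb p).2.1 (comb p).2.2 q = if p = q then K else 0

theorem Frame.Acts.rep_injective (ha : M.Acts H) (h : M.Good) (hn : 0 < M.n) {K : ℤ}
    {comb : GolayPt → ℤ × ℤ × List (ℕ × ℤ)} (hs : M.Span K comb) :
    Function.Injective (ha.rep h hn) := by
  refine (injective_iff_map_eq_one _).mpr fun g hg => ?_
  let A : leechLattice →+ leechLattice :=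
    AddMonoidHom.mk' (fun x => (g : Equiv.Perm leechLattice) x) (ha.le g.2).1
  let P : AddSubgroup leechLattice :=
    { carrier := {x | A x = x}
      zero_mem' := map_zero A
      add_mem' := fun {a b} ha' hb' => by
        show A (a + b) = a + b
        rw [map_add, ha', hb']
      neg_mem' := fun {a} ha' => by
        show A (-a) = -a
        rw [map_neg, ha'] }
  have hpt : ∀ i : Fin M.n, (h.point i : leechLattice) ∈ P := fun i => by
    show (g : Equiv.Perm leechLattice) (h.point i) = _
    rw [← ha.point_rep h hn g i, hg]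
    rfl
  have hcoord : ∀ p, ∃ e ∈ P, ∀ q, (e : GolayPt → ℤ) q = if p = q then K else 0 := by
    intro p
    have key : ∀ cs : List (ℕ × ℤ), (∀ t ∈ cs, t.1 < M.n) →
        ∃ e ∈ P, ∀ q, (e : GolayPt → ℤ) q =
          (cs.map fun t => t.2 * ofL (coords (M.pts.getD t.1 0)) q).sum := by
      intro cs
      induction cs with
      | nil => exact fun _ => ⟨0, P.zero_mem, fun q => rfl⟩
      | cons t cs ih =>
        intro hlt
        obtain ⟨e, he, hq⟩ := ih fun s hs' => hlt s (List.mem_cons_of_mem _ hs')
        refine ⟨t.2 • (h.point ⟨t.1, hlt t (by simp)⟩ : leechLattice) + e,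
          P.add_mem (P.zsmul_mem (hpt _) _) he, fun q => ?_⟩
        rw [List.map_cons, List.sum_cons, AddSubgroup.coe_add, Pi.add_apply, hq,
          AddSubgroup.coe_zsmul, Pi.smul_apply, smul_eq_mul]
        rfl
    obtain ⟨e, he, hq⟩ := key _ (hs.idx p)
    refine ⟨(comb p).1 • M.v + (comb p).2.1 • M.w + e,
      P.add_mem (P.add_mem (P.zsmul_mem (ha.fixv g g.2) _) (P.zsmul_mem (ha.fixw g g.2) _)) he,
      fun q => ?_⟩
    rw [← hs.eq p q, Frame.combAt]
    simp only [AddSubgroup.coe_add, AddSubgroup.coe_zsmul, Pi.add_apply, Pi.smul_apply,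
      smul_eq_mul, hq]
  choose e he hq using hcoord
  refine Subtype.ext (Equiv.ext fun x => ?_)
  have hx : K • x = ∑ p, (x : GolayPt → ℤ) p • e p := by
    refine Subtype.ext (funext fun q => ?_)
    rw [AddSubgroup.coe_zsmul, AddSubgroup.val_finsetSum, Finset.sum_apply]
    simp only [AddSubgroup.coe_zsmul, Pi.smul_apply, smul_eq_mul, hq, mul_ite, mul_zero,
      Finset.sum_ite_eq', Finset.mem_univ, if_true]
    rw [mul_comm]
  have hKx : A (K • x) = K • x := by
    rw [hx]
    exact (P.sum_mem fun p _ => P.zsmul_mem (he p) _ : _ ∈ P)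
  rw [map_zsmul] at hKx
  have : K • ((A x : leechLattice) : GolayPt → ℤ) = K • (x : GolayPt → ℤ) := by
    rw [← AddSubgroup.coe_zsmul, ← AddSubgroup.coe_zsmul, hKx]
  exact Subtype.ext (funext fun q => by
    have := congrFun this q
    simp only [Pi.smul_apply, smul_eq_mul] at this
    exact mul_left_cancel₀ hs.ne this)

end Cfsg.Agent.LeechModel
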