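import Cfsg.Agent.StemCert.Count

/-!
Codes for words in coded permutations.
-/

set_option autoImplicit false

namespace Cfsg.Agent.LeechModel

open Cfsg.Agent.Compute Cfsg.Agent.StemCert

/-- The listed codes are those of the listed words. -/
noncomputable def wordsB (n w kb : ℕ) (bcs : List ℕ) (ws : List (List ℕ)) (cs : List ℕ) (k : ℕ) :
    Bool :=
  allBelow k fun s => allB (fun t => Nat.blt t kb) (ws.getD s []) &&
    allBelow n fun i => Nat.beq (appW w bcs (ws.getD s []) i) (getField w (cs.getD s 0) i)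

theorem coded_of_wordsB {n w kb k : ℕ} {G : Type*} [Group G] {ι : G →* Equiv.Perm (Fin n)}
    {a : ℕ → G} {bcs : List ℕ} (ha : Coded (w := w) (k := kb) ι a bcs) {ws : List (List ℕ)}
    {cs : List ℕ} (h : wordsB n w kb bcs ws cs k = true) :
    Coded (w := w) (k := k) ι (fun s => evalW a (ws.getD s [])) cs := by
  intro s hs x
  have hs' := allBelow_eq_true.mp h s hs
  simp only [Bool.and_eq_true] at hs'
  rw [appW_spec ha _ (fun t ht => Nat.blt_eq.mp (allB_spec hs'.1 t ht)) x]
  exact Nat.eq_of_beq_eq_true (allBelow_eq_true.mp hs'.2 x x.2)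

end Cfsg.Agent.LeechModel
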