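import Cfsg.Agent.LeechModel.Words

/-!
A table of a conjugacy class, up to conjugation by a fixed element of order dividing eleven.
-/

set_option autoImplicit false

namespace Cfsg.Agent.LeechModel

open Cfsg.Agent.Compute Cfsg.Agent.StemCert

/-- A table: codes of representatives with parents, the sorted keys and the positions. -/
structure Table where
  /-- the number of representatives -/
  size : ℕ
  /-- the code of a representative -/
  code : Arr ℕ
  /-- parent, generator and witnesses of a representative -/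
  info : Arr ℕ
  /-- positions of the keys, by blocks of 64 -/
  pos : Arr ℕ
  /-- the sorted keys -/
  sorted : Arr ℕ

variable (T : Table) (n w : ℕ)

/-- The code of a representative. -/
noncomputable def Table.rep (j : ℕ) : ℕ := T.code.get 0 j

/-- The parent. -/
noncomputable def Table.par (j : ℕ) : ℕ := getField 24 (T.info.get 0 j) 0

/-- The conjugating generator. -/
noncomputable def Table.via (j : ℕ) : ℕ := getField 24 (T.info.get 0 j) 1

/-- The witness for a sign: condition and point. -/
noncomputable def Table.wit (j e : ℕ) : ℕ := getField 24 (T.info.get 0 j) (Nat.add 2 e)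

/-- The links of the tree. -/
noncomputable def Table.linkB (k : ℕ) (cs xs tw : List ℕ) (lo hi : ℕ) : Bool :=
  allBelow (hi - lo) fun i =>
    let j := Nat.add lo i
    cond (Nat.beq j 0)
      (allBelow n fun p => Nat.beq (getField w (T.rep j) p) (appW w cs tw p))
      (Nat.blt (T.par j) j && Nat.blt (Nat.mod (T.via j) 256) k && Nat.blt (Nat.div (T.via j) 256) 11 &&
        forceN (cs.getD (Nat.mod (T.via j) 256) 0) fun s => forceN (xs.getD (Nat.div (T.via j) 256) 0) fun x =>
        forceN (T.rep j) fun c => forceN (T.rep (T.par j)) fun d =>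
          allBelow n fun p => Nat.beq (getField w c (getField w s (getField w x p)))
            (getField w s (getField w x (getField w d p))))

/-- A listed element at a point. -/
noncomputable def Table.img (xs : List ℕ) (j m p : ℕ) : ℕ :=
  getField w (xs.getD m 0) (getField w (T.rep j) (getField w (xs.getD (Nat.mod (Nat.sub 11 m) 11) 0) p))

/-- The key of a listed element. -/
noncomputable def Table.key (xs pts : List ℕ) (j m : ℕ) : ℕ :=
  List.rec (motive := fun _ => ℕ) 0
    (fun p _ r => Nat.add (T.img w xs j m p) (Nat.shiftLeft r w)) pts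

/-- The position of a key. -/
noncomputable def Table.posAt (i : ℕ) : ℕ :=
  getField 16 (T.pos.get 0 (Nat.div i 64)) (Nat.mod i 64)

/-- The keys are found at their positions. -/
noncomputable def Table.keyB (xs pts : List ℕ) (lo hi : ℕ) : Bool :=
  allBelow (hi - lo) fun i =>
    let j := Nat.add lo i
    allBelow 11 fun m =>
      let r := Nat.add (Nat.mul 11 j) m
      Nat.blt (T.posAt r) (Nat.mul 11 T.size) &&
        Nat.beq (T.sorted.get 0 (T.posAt r)) (Nat.add (Nat.mul (T.key w xs pts j m) 65536) r)

/-- The sorted keys increase. -/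
noncomputable def Table.sortB : Bool :=
  allBelow (Nat.mul 11 T.size - 1) fun i =>
    Nat.blt (Nat.div (T.sorted.get 0 i) 65536) (Nat.div (T.sorted.get 0 (Nat.succ i)) 65536)

/-- The word of a condition. -/
noncomputable def condWord (c : List ℕ × ℕ) : List ℕ :=
  (List.replicate c.2 (c.1.flatMap fun a => [a, 11])).flatten

/-- The codes for a sign and an element. -/
noncomputable def condCodes (xs : List ℕ) (e c : ℕ) : List ℕ :=
  ((List.range 11).map fun a => xs.getD (Nat.mod (Nat.mul e a) 11) 0) ++ [c]

/-- The sign exponents. -/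
noncomputable def signExp (e : ℕ) : ℕ := cond (Nat.beq e 0) 1 10

/-- A representative fails a condition, or is listed as a solution. -/
noncomputable def Table.refuteB (xs : List ℕ) (conds : List (List ℕ × ℕ)) (sols : List (ℕ × ℕ))
    (lo hi : ℕ) : Bool :=
  allBelow (hi - lo) fun i =>
    let j := Nat.add lo i
    allBelow 2 fun e =>
      allB (fun s => !(Nat.beq s.1 j && Nat.beq s.2 e)) sols == false ||
        (Nat.blt (Nat.mod (T.wit j e) 8) conds.length && Nat.blt (Nat.div (T.wit j e) 8) n &&
          forceN (Nat.div (T.wit j e) 8) fun p =>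
            !(Nat.beq (appW w (condCodes xs (signExp e) (T.rep j))
              (condWord (conds.getD (Nat.mod (T.wit j e) 8) ([], 0))) p) p))

variable {T} {n w}

/-- Split checks. -/
theorem allBelow_split {f : ℕ → Bool} {lo hi : ℕ}
    (h : allBelow (hi - lo) (fun i => f (Nat.add lo i)) = true) {j : ℕ} (h1 : lo ≤ j) (h2 : j < hi) :
    f j = true := by
  have := allBelow_eq_true.mp h (j - lo) (by omega)
  rwa [show Nat.add lo (j - lo) = j from Nat.add_sub_cancel' h1] at this

variable {k : ℕ} {G : Type*} [Group G] {ι : G →* Equiv.Perm (Fin n)} {gen : ℕ → G}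
  {cs pts xs : List ℕ} {X : G}

/-- The codes of the powers of an element. -/
def PowCodes (ι : G →* Equiv.Perm (Fin n)) (w : ℕ) (X : G) (xs : List ℕ) : Prop :=
  X ^ 11 = 1 ∧ Coded (w := w) (k := 11) ι (fun m => X ^ m) xs

theorem allB_of_forall {α : Type} {f : α → Bool} :
    ∀ {l : List α}, (∀ x ∈ l, f x = true) → allB f l = true
  | [], _ => rfl
  | a :: l, h => by
    show (f a && allB f l) = true
    rw [h a (by simp), allB_of_forall fun x hx => h x (List.mem_cons_of_mem _ hx), Bool.and_true]

/-- Powers from a check. -/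
theorem powCodes_of_check (hc : Coded (w := w) (k := k) ι gen cs) (hb : IsBase ι pts) (s : ℕ)
    (hs : s < k) (h11 : eqOn w cs pts (List.replicate 11 s) [] = true)
    (hx : allBelow 11 (fun m => allBelow n fun p =>
      Nat.beq (getField w (xs.getD m 0) p) (appW w cs (List.replicate m s) p)) = true) :
    PowCodes ι w (gen s) xs := by
  refine ⟨?_, fun m hm x => ?_⟩
  · have := eq_of_eqOn hc hb (fun t ht => (List.eq_of_mem_replicate ht) ▸ hs) (by simp) h11
    rwa [evalW_replicate] at this
  · show (ι (gen s ^ m) x : ℕ) = _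
    rw [← evalW_replicate gen m s, appW_spec hc _ (fun t ht => (List.eq_of_mem_replicate ht) ▸ hs) x]
    exact (Nat.eq_of_beq_eq_true (allBelow_eq_true.mp (allBelow_eq_true.mp hx m hm) x x.2)).symm

/-- The element with a code. -/
def HasCode (ι : G →* Equiv.Perm (Fin n)) (w : ℕ) (q : G) (c : ℕ) : Prop :=
  ∀ p : Fin n, (ι q p : ℕ) = getField w c p

theorem Table.exists_rep (hc : Coded (w := w) (k := k) ι gen cs) (hX : PowCodes ι w X xs)
    {tw : List ℕ} (htw : ∀ s ∈ tw, s < k)
    (h : ∀ j < T.size, T.linkB n w k cs xs tw j (j + 1) = true) :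
    ∀ j < T.size, ∃ a : G, HasCode ι w (a * evalW gen tw * a⁻¹) (T.rep j) := by
  intro j
  induction j using Nat.strong_induction_on with
  | _ j ih =>
    intro hj
    have hl := allBelow_split (f := fun j => cond (Nat.beq j 0)
      (allBelow n fun p => Nat.beq (getField w (T.rep j) p) (appW w cs tw p))
      (Nat.blt (T.par j) j && Nat.blt (Nat.mod (T.via j) 256) k && Nat.blt (Nat.div (T.via j) 256) 11 &&
        forceN (cs.getD (Nat.mod (T.via j) 256) 0) fun s => forceN (xs.getD (Nat.div (T.via j) 256) 0) fun x =>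
        forceN (T.rep j) fun c => forceN (T.rep (T.par j)) fun d =>
          allBelow n fun p => Nat.beq (getField w c (getField w s (getField w x p)))
            (getField w s (getField w x (getField w d p)))))
      (h j hj) (le_refl j) (Nat.lt_succ_self j)
    cases hj0 : Nat.beq j 0
    · rw [hj0, cond_false] at hl
      simp only [Bool.and_eq_true, Nat.blt_eq, forceN_eq] at hl
      obtain ⟨⟨⟨hp, hv⟩, hm⟩, he⟩ := hl
      obtain ⟨a, ha⟩ := ih _ hp (hp.trans hj)
      set v := Nat.mod (T.via j) 256
      set m := Nat.div (T.via j) 256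
      refine ⟨gen v * X ^ m * a, fun q => ?_⟩
      obtain ⟨p, rfl⟩ := (ι (gen v * X ^ m)).surjective q
      have e := Nat.eq_of_beq_eq_true (allBelow_eq_true.mp he p p.2)
      rw [← hX.2 m hm p, ← hc _ hv, ← ha p, ← hX.2 m hm, ← hc _ hv] at e
      rw [show gen v * X ^ m * a * evalW gen tw * (gen v * X ^ m * a)⁻¹ =
        gen v * X ^ m * (a * evalW gen tw * a⁻¹) * (gen v * X ^ m)⁻¹ by group, map_mul, map_inv,
        Equiv.Perm.mul_apply, Equiv.Perm.inv_def, Equiv.symm_apply_apply, map_mul, map_mul]
      simp only [Equiv.Perm.mul_apply]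
      exact e.symm
    · rw [hj0, cond_true] at hl
      refine ⟨1, fun q => ?_⟩
      rw [one_mul, inv_one, mul_one, appW_spec hc tw htw q]
      exact (Nat.eq_of_beq_eq_true (allBelow_eq_true.mp hl q q.2)).symm

theorem img_spec (hX : PowCodes ι w X xs) {r : G} {j : ℕ} (hr : HasCode ι w r (T.rep j)) {m : ℕ}
    (hm : m < 11) (p : Fin n) :
    (ι (X ^ m * r * (X ^ m)⁻¹) p : ℕ) = T.img w xs j m p := by
  have hinv : (X ^ m)⁻¹ = X ^ ((11 - m) % 11) := by
    refine inv_eq_of_mul_eq_one_right ?_
    rw [← pow_add, pow_eq_pow_mod _ hX.1, show (m + (11 - m) % 11) % 11 = 0 by omega, pow_zero]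
  rw [hinv, map_mul, map_mul, Equiv.Perm.mul_apply, Equiv.Perm.mul_apply, hX.2 m hm, hr,
    hX.2 _ (Nat.mod_lt _ (by norm_num))]
  rfl

theorem key_congr {q : G} {j j' m m' : ℕ} {pts : List ℕ} (hlt : ∀ p ∈ pts, p < n)
    (h : ∀ p : Fin n, (ι q p : ℕ) = T.img w xs j m p)
    (h' : ∀ p : Fin n, (ι q p : ℕ) = T.img w xs j' m' p) :
    T.key w xs pts j m = T.key w xs pts j' m' := by
  induction pts with
  | nil => rfl
  | cons b bs ih =>
    have e : T.img w xs j m b = T.img w xs j' m' b :=
      ((h ⟨b, hlt b (by simp)⟩).symm.trans (h' ⟨b, hlt b (by simp)⟩) :)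
    show Nat.add (T.img w xs j m b) (Nat.shiftLeft (T.key w xs bs j m) w) =
      Nat.add (T.img w xs j' m' b) (Nat.shiftLeft (T.key w xs bs j' m') w)
    rw [e, ih fun p hp => hlt p (List.mem_cons_of_mem _ hp)]

theorem Table.key_injective (h : ∀ j < T.size, T.keyB w xs pts j (j + 1) = true)
    (hs : T.sortB = true) (hsz : 11 * T.size ≤ 65536) {i i' : Fin T.size × Fin 11}
    (he : T.key w xs pts i.1 i.2 = T.key w xs pts i'.1 i'.2) : i = i' := by
  have key : ∀ i : Fin T.size × Fin 11,
      T.posAt (11 * i.1 + i.2) < 11 * T.size ∧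
      T.sorted.get 0 (T.posAt (11 * i.1 + i.2)) = T.key w xs pts i.1 i.2 * 65536 + (11 * i.1 + i.2) := by
    intro i
    have := allBelow_split (f := fun j => allBelow 11 fun m =>
      Nat.blt (T.posAt (Nat.add (Nat.mul 11 j) m)) (Nat.mul 11 T.size) &&
        Nat.beq (T.sorted.get 0 (T.posAt (Nat.add (Nat.mul 11 j) m)))
          (Nat.add (Nat.mul (T.key w xs pts j m) 65536) (Nat.add (Nat.mul 11 j) m)))
      (h i.1 i.1.2) (le_refl _) (Nat.lt_succ_self _)
    have := allBelow_eq_true.mp this i.2 i.2.2
    simp only [Bool.and_eq_true, Nat.blt_eq, Nat.beq_eq] at this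
    exact this
  have hlt16 : ∀ i : Fin T.size × Fin 11, 11 * (i.1 : ℕ) + i.2 = 11 * i.1 + i.2 := fun _ => rfl
  have hmono : ∀ a b, a < b → b < 11 * T.size →
      T.sorted.get 0 a / 65536 < T.sorted.get 0 b / 65536 := by
    intro a b hab
    induction b with
    | zero => omega
    | succ b ih =>
      intro hb
      have hstep := allBelow_eq_true.mp hs b (by simp only [Nat.mul_eq]; omega)
      simp only [Nat.blt_eq] at hstep
      rcases Nat.lt_succ_iff_lt_or_eq.mp hab with h1 | h1
      · exact (ih h1 (by omega)).trans hstep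
      · exact h1 ▸ hstep
  obtain ⟨p1, e1⟩ := key i
  obtain ⟨p2, e2⟩ := key i'
  have hpos : T.posAt (11 * i.1 + i.2) = T.posAt (11 * i'.1 + i'.2) := by
    by_contra hne
    have hb : ∀ i : Fin T.size × Fin 11, T.posAt (11 * i.1 + i.2) < 65536 := fun i => by
      simp only [Table.posAt, getField_eq]
      exact Nat.mod_lt _ (by norm_num)
    have h1 := i.1.2; have h2 := i'.1.2; have h3 := i.2.2; have h4 := i'.2.2
    rcases Nat.lt_or_ge (T.posAt (11 * i.1 + i.2)) (T.posAt (11 * i'.1 + i'.2)) with hh | hh
    · have := hmono _ _ hh p2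
      rw [e1, e2, he] at this
      have := hb i; have := hb i'
      omega
    · have := hmono _ _ (lt_of_le_of_ne hh (Ne.symm hne)) p1
      rw [e1, e2, he] at this
      omega
  have hi : 11 * (i.1 : ℕ) + i.2 = 11 * i'.1 + i'.2 := by
    rw [hpos] at e1
    have := e1.symm.trans e2
    rw [he] at this
    omega
  have h3 := i.2.2; have h4 := i'.2.2
  exact Prod.ext (Fin.ext (by omega)) (Fin.ext (by omega))

/-- What a checked table gives. -/
theorem Table.class_eq [Finite G] (hc : Coded (w := w) (k := k) ι gen cs) {tw : List ℕ}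
    (htw : ∀ s ∈ tw, s < k) (hlink : ∀ j < T.size, T.linkB n w k cs xs tw j (j + 1) = true)
    (hX : PowCodes ι w X xs) (hpts : ∀ p ∈ pts, p < n)
    (hkey : ∀ j < T.size, T.keyB w xs pts j (j + 1) = true) (hsort : T.sortB = true) (hsz : 11 * T.size ≤ 65536) {N : ℕ}
    (hcent : N ≤ Nat.card (Subgroup.centralizer ({evalW gen tw} : Set G)))
    (hN : Nat.card G = 11 * T.size * N) :
    (∀ q, IsConj (evalW gen tw) q → ∃ j < T.size, ∃ (m : ℕ) (r : G),
      m < 11 ∧ HasCode ι w r (T.rep j) ∧ q = X ^ m * r * (X ^ m)⁻¹) ∧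
      Nat.card (Subgroup.centralizer ({evalW gen tw} : Set G)) = N := by
  classical
  set t := evalW gen tw
  choose a ha using Table.exists_rep hc hX htw hlink
  let f : Fin T.size × Fin 11 → {q : G // IsConj t q} := fun i =>
    ⟨X ^ (i.2 : ℕ) * (a i.1 i.1.2 * t * (a i.1 i.1.2)⁻¹) * (X ^ (i.2 : ℕ))⁻¹,
      isConj_iff.mpr ⟨X ^ (i.2 : ℕ) * a i.1 i.1.2, by group⟩⟩
  have hf : Function.Injective f := fun i i' e => by
    refine Table.key_injective hkey hsort hsz (key_congr (ι := ι) hpts (q := (f i).1) ?_ ?_)
    · exact fun p => img_spec hX (ha _ _) i.2.2 p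
    · exact fun p => by rw [e]; exact img_spec hX (ha _ _) i'.2.2 p
  have hclass : Nat.card {q : G // IsConj t q} *
      Nat.card (Subgroup.centralizer ({t} : Set G)) = Nat.card G := by
    have h := Nat.card_congr (MulAction.orbitProdStabilizerEquivGroup (ConjAct G) t)
    rw [Nat.card_prod] at h
    have e1 : Nat.card {q : G // IsConj t q} = Nat.card (MulAction.orbit (ConjAct G) t) :=
      Nat.card_congr (Equiv.subtypeEquivRight fun q => by
        rw [ConjAct.mem_orbit_conjAct, isConj_comm])
    have e2 : Nat.card (Subgroup.centralizer ({t} : Set G)) =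
        Nat.card (MulAction.stabilizer (ConjAct G) t) :=
      Nat.card_congr (ConjAct.toConjAct.toEquiv.subtypeEquiv fun g => by
        rw [Subgroup.mem_centralizer_singleton_iff, MulAction.mem_stabilizer_iff]
        show g * t = t * g ↔ ConjAct.toConjAct g • t = t
        rw [ConjAct.toConjAct_smul, mul_inv_eq_iff_eq_mul])
    rw [e1, e2, h]
    exact Nat.card_congr ConjAct.ofConjAct.toEquiv
  have hle : 11 * T.size ≤ Nat.card {q : G // IsConj t q} := by
    have := Nat.card_le_card_of_injective f hf
    rw [Nat.card_prod, Nat.card_fin, Nat.card_fin] at this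
    omega
  rcases Nat.eq_zero_or_pos T.size with h0 | hpos
  · rw [h0] at hN
    simp only [mul_zero, zero_mul] at hN
    exact absurd hN Nat.card_pos.ne'
  have hN0 : 0 < N := Nat.pos_of_ne_zero fun h => by
    rw [h, mul_zero] at hN
    exact Nat.card_pos.ne' hN
  have h1 : Nat.card {q : G // IsConj t q} = 11 * T.size := by
    refine le_antisymm ?_ hle
    by_contra hgt
    have : (11 * T.size + 1) * N ≤ Nat.card {q : G // IsConj t q} *
        Nat.card (Subgroup.centralizer ({t} : Set G)) := Nat.mul_le_mul (by omega) hcent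
    rw [hclass, hN, Nat.add_mul] at this
    omega
  refine ⟨fun q hq => ?_, ?_⟩
  · have hb : Function.Bijective f := (Nat.bijective_iff_injective_and_card f).mpr
      ⟨hf, by rw [h1, Nat.card_prod, Nat.card_fin, Nat.card_fin, Nat.mul_comm]⟩
    obtain ⟨i, hi⟩ := hb.2 ⟨q, hq⟩
    exact ⟨i.1, i.1.2, i.2, _, i.2.2, ha _ _, (congrArg Subtype.val hi).symm⟩
  · rw [h1, hN] at hclass
    exact Nat.eq_of_mul_eq_mul_left (by omega) hclass

/-- The evaluation of a condition. -/
theorem cond_coded (hX : PowCodes ι w X xs) {r : G} {c e : ℕ} (hr : HasCode ι w r c) :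
    Coded (w := w) (k := 12) ι (fun a => if a < 11 then X ^ (e * a) else r) (condCodes xs e c) := by
  intro a ha x
  show (ι (if a < 11 then X ^ (e * a) else r) x : ℕ) = _
  rcases Nat.lt_or_ge a 11 with h | h
  · rw [if_pos h, pow_eq_pow_mod _ hX.1, hX.2 _ (Nat.mod_lt _ (by norm_num))]
    simp [condCodes, List.getD_eq_getElem?_getD, List.getElem?_append, h]
    rfl
  · obtain rfl : a = 11 := by omega
    rw [if_neg (lt_irrefl 11), hr]
    simp [condCodes, List.getD_eq_getElem?_getD]

theorem condWord_lt {c : List ℕ × ℕ} (h : ∀ a ∈ c.1, a < 11) : ∀ s ∈ condWord c, s < 12 := by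
  intro s hs
  simp only [condWord, List.mem_flatten, List.mem_replicate] at hs
  obtain ⟨l, ⟨-, rfl⟩, hs⟩ := hs
  simp only [List.mem_flatMap, List.mem_cons, List.not_mem_nil, or_false] at hs
  obtain ⟨a, ha, hs | hs⟩ := hs
  · have := h a ha; omega
  · omega

/-- The images of `t` under automorphisms with `X ↦ X ^ ±1` are listed solutions. -/
theorem Table.solutions [Finite G] (hX : PowCodes ι w X xs) {conds : List (List ℕ × ℕ)}
    (hconds : ∀ c ∈ conds, ∀ a ∈ c.1, a < 11) {t : G}
    (ht : ∀ c ∈ conds, evalW (fun a => if a < 11 then X ^ a else t) (condWord c) = 1)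
    {sols : List (ℕ × ℕ)}
    (href : ∀ j < T.size, T.refuteB n w xs conds sols j (j + 1) = true) (φ : MulAut G) {e : ℕ}
    (he : e < 2) (hφ : φ X = X ^ signExp e) {j m : ℕ} {r : G} (hj : j < T.size)
    (hr : HasCode ι w r (T.rep j)) (hq : φ t = X ^ m * r * (X ^ m)⁻¹) : (j, e) ∈ sols := by
  have h := allBelow_split (f := fun j => allBelow 2 fun e =>
      allB (fun s => !(Nat.beq s.1 j && Nat.beq s.2 e)) sols == false ||
        (Nat.blt (Nat.mod (T.wit j e) 8) conds.length && Nat.blt (Nat.div (T.wit j e) 8) n &&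
          forceN (Nat.div (T.wit j e) 8) fun p =>
            !(Nat.beq (appW w (condCodes xs (signExp e) (T.rep j))
              (condWord (conds.getD (Nat.mod (T.wit j e) 8) ([], 0))) p) p)))
    (href j hj) (le_refl _) (Nat.lt_succ_self _)
  have h' := allBelow_eq_true.mp h e he
  simp only [Bool.or_eq_true, Bool.and_eq_true, Nat.blt_eq, beq_iff_eq, forceN_eq,
    Bool.not_eq_true'] at h'
  rcases h' with h' | ⟨⟨hi, hp⟩, hne⟩
  · by_contra hc
    have : allB (fun s => !(Nat.beq s.1 j && Nat.beq s.2 e)) sols = true := by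
      refine allB_of_forall fun s hs => ?_
      cases hb : (Nat.beq s.1 j && Nat.beq s.2 e)
      · rfl
      · simp only [Bool.and_eq_true, Nat.beq_eq] at hb
        exact absurd (show (j, e) ∈ sols by rw [← hb.1, ← hb.2]; exact hs) hc
    rw [this] at h'
    exact Bool.noConfusion h'
  · exfalso
    simp only [show ∀ a b : ℕ, Nat.mod a b = a % b from fun _ _ => rfl,
      show ∀ a b : ℕ, Nat.div a b = a / b from fun _ _ => rfl] at hi hp hne
    set ci := T.wit j e % 8
    have hci : conds.getD ci ([], 0) ∈ conds := by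
      rw [List.getD_eq_getElem _ _ hi]; exact List.getElem_mem hi
    set c := conds.getD ci ([], 0)
    have hmap := congrArg φ (ht c hci)
    rw [map_one, ← MulEquiv.coe_toMonoidHom, map_evalW] at hmap
    have hfun : ∀ s, (φ.toMonoidHom ∘ fun a => if a < 11 then X ^ a else t) s =
        X ^ m * (if s < 11 then X ^ (signExp e * s) else r) * (X ^ m)⁻¹ := by
      intro s
      change φ (if s < 11 then X ^ s else t) = _
      by_cases hs : s < 11
      · rw [if_pos hs, if_pos hs, map_pow, hφ, ← pow_mul, ← pow_add, Nat.add_comm, pow_add,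
          mul_inv_cancel_right]
      · rw [if_neg hs, if_neg hs, hq]
    rw [show φ.toMonoidHom ∘ (fun a => if a < 11 then X ^ a else t) =
      fun s => MulAut.conj (X ^ m) (if s < 11 then X ^ (signExp e * s) else r) from funext hfun] at hmap
    rw [show evalW (fun s => MulAut.conj (X ^ m) (if s < 11 then X ^ (signExp e * s) else r))
        (condWord c) = MulAut.conj (X ^ m) (evalW (fun s => if s < 11 then X ^ (signExp e * s) else r)
          (condWord c)) from (map_evalW (MulAut.conj (X ^ m)).toMonoidHom _ _).symm] at hmap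
    rw [MulEquiv.map_eq_one_iff] at hmap
    have := appW_spec (cond_coded (e := signExp e) hX hr) (condWord c) (condWord_lt (hconds c hci))
      ⟨T.wit j e / 8, hp⟩
    rw [hmap] at this
    simp only [map_one, Equiv.Perm.one_apply] at this
    rw [show (condCodes xs (signExp e) (T.rep j)) = condCodes xs (signExp e) (T.rep j) from rfl] at hne
    rw [← this] at hne
    simp at hne

end Cfsg.Agent.LeechModel
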