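import Cfsg.Agent.LeechModel.Table

/-!
Centralisers from commuting words, and the classes of involutions from a Sylow subgroup.
-/

set_option autoImplicit false

namespace Cfsg.Agent.LeechModel

open Cfsg.Agent.Compute Cfsg.Agent.StemCert

/-- The listed words commute with a word. -/
noncomputable def commB (w k : ℕ) (cs pts tw : List ℕ) (ws : List (List ℕ)) : Bool :=
  allB (fun s => Nat.blt s k) tw &&
    allB (fun u => allB (fun s => Nat.blt s k) u && eqOn w cs pts (u ++ tw) (tw ++ u)) ws

/-- The key of a word on the listed points. -/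
noncomputable def wordKey (w : ℕ) (cs pts u : List ℕ) : ℕ :=
  List.rec (motive := fun _ => ℕ) 0 (fun p _ r => Nat.add (appW w cs u p) (Nat.shiftLeft r w)) pts

/-- A listed element, checked. -/
noncomputable def syl2B (w : ℕ) (cs pts : List ℕ) (els gens : List (List ℕ))
    (next : List (List ℕ)) (tree : List (ℕ × ℕ)) (kinds : List (ℕ × List ℕ)) (tgts : List (List ℕ))
    (i : ℕ) : Bool :=
  let u := els.getD i []
  allBelow gens.length (fun g => Nat.blt ((next.getD i []).getD g 0) els.length &&
      eqOn w cs pts (gens.getD g [] ++ u) (els.getD ((next.getD i []).getD g 0) [])) &&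
    (Nat.beq i 0 ||
      (Nat.blt (tree.getD i (0, 0)).1 i && Nat.blt (tree.getD i (0, 0)).2 gens.length &&
        Nat.beq ((next.getD (tree.getD i (0, 0)).1 []).getD (tree.getD i (0, 0)).2 0) i &&
        (!(eqOn w cs pts (u ++ u) []) ||
          (Nat.blt (kinds.getD i (0, [])).1 tgts.length &&
            eqOn w cs pts (u ++ (kinds.getD i (0, [])).2)
              ((kinds.getD i (0, [])).2 ++ tgts.getD (kinds.getD i (0, [])).1 [])))))

/-- All letters are generators. -/
noncomputable def lettersB (k : ℕ) (ls : List (List ℕ)) : Bool :=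
  allB (fun u => allB (fun s => Nat.blt s k) u) ls

variable {n w k : ℕ} {G : Type*} [Group G] [Finite G] {ι : G →* Equiv.Perm (Fin n)} {gen : ℕ → G}
  {cs pts : List ℕ}

theorem le_card_centralizer (hc : Coded (w := w) (k := k) ι gen cs) (hb : IsBase ι pts)
    {tw : List ℕ} {ws : List (List ℕ)} (h : commB w k cs pts tw ws = true) {k' : ℕ} {cs' : List ℕ}
    (hk' : k' = ws.length) (hc' : wordsB n w k cs ws cs' k' = true) {D : List Lv} {bs : List ℕ}
    (hw : wfB D = true) (hg : gensBelow k' D = true) (hlt : ∀ b ∈ bs, b < n)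
    (hd : distinctB w cs' D bs = true) :
    numForms D ≤ Nat.card (Subgroup.centralizer ({evalW gen tw} : Set G)) := by
  classical
  simp only [commB, Bool.and_eq_true] at h
  obtain ⟨htw, hws⟩ := h
  have hco := coded_of_wordsB hc hc'
  set g' : ℕ → G := fun s => evalW gen (ws.getD s [])
  have hcent : ∀ s < k', g' s ∈ Subgroup.centralizer ({evalW gen tw} : Set G) := by
    intro s hs
    rw [Subgroup.mem_centralizer_singleton_iff]
    have hmem : ws.getD s [] ∈ ws := by
      rw [List.getD_eq_getElem _ _ (hk' ▸ hs)]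
      exact List.getElem_mem _
    have hu := allB_spec hws _ hmem
    simp only [Bool.and_eq_true] at hu
    have hul : ∀ a ∈ ws.getD s [], a < k := fun a ha => Nat.blt_eq.mp (allB_spec hu.1 a ha)
    have htl : ∀ a ∈ tw, a < k := fun a ha => Nat.blt_eq.mp (allB_spec htw a ha)
    have := eq_of_eqOn hc hb (a := ws.getD s [] ++ tw) (b := tw ++ ws.getD s [])
      (fun a ha => (List.mem_append.mp ha).elim (hul a) (htl a))
      (fun a ha => (List.mem_append.mp ha).elim (htl a) (hul a)) hu.2
    rwa [evalW_append, evalW_append] at this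
  let f : forms D → Subgroup.centralizer ({evalW gen tw} : Set G) := fun x =>
    ⟨nf g' Lv.word D x.1, by
      refine (Submonoid.closure_le (S := (Subgroup.centralizer ({evalW gen tw} : Set G)).toSubmonoid)).mpr
        ?_ (nf_mem_closure hw hg (valid_of_mem_forms x.2))
      rintro _ ⟨s, hs, rfl⟩
      exact hcent s hs⟩
  have hf : Function.Injective f := fun x y e =>
    Subtype.ext (nf_injective_of_check hco hw hg hlt hd _ _ (valid_of_mem_forms x.2)
      (valid_of_mem_forms y.2) (congrArg Subtype.val e))
  have := Nat.card_le_card_of_injective f hf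
  rwa [show Nat.card (forms D) = numForms D by simp [card_forms]] at this

/-- The classes of involutions. -/
theorem involution_cases (hc : Coded (w := w) (k := k) ι gen cs) (hb : IsBase ι pts) {a : ℕ}
    (ha : (Nat.card G).factorization 2 = a) {els gens tgts : List (List ℕ)} {next : List (List ℕ)}
    {tree : List (ℕ × ℕ)} {kinds : List (ℕ × List ℕ)}
    (hlet : lettersB k els = true ∧ lettersB k gens = true ∧ lettersB k tgts = true ∧
      lettersB k (kinds.map Prod.snd) = true)
    (hlen : els.length = 2 ^ a) (h0 : els.getD 0 [] = [])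
    (hkeys : (els.map (wordKey w cs pts)).Nodup)
    (h : ∀ i < els.length, syl2B w cs pts els gens next tree kinds tgts i = true) (q : G)
    (hq : orderOf q = 2) : ∃ u ∈ tgts, IsConj (evalW gen u) q := by
  classical
  obtain ⟨l1, l2, l3, l4⟩ := hlet
  have hl : ∀ (ls : List (List ℕ)), lettersB k ls = true → ∀ i, ∀ s ∈ ls.getD i [], s < k := by
    intro ls hls i s hs
    by_cases hi : i < ls.length
    · rw [List.getD_eq_getElem _ _ hi] at hs
      exact Nat.blt_eq.mp (allB_spec (allB_spec hls _ (List.getElem_mem hi)) s hs)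
    · rw [List.getD_eq_default _ _ (by omega)] at hs
      simp at hs
  let el : Fin els.length → G := fun i => evalW gen (els.getD i [])
  let ge : ℕ → G := fun g => evalW gen (gens.getD g [])
  let P : Subgroup G := Subgroup.closure (ge '' {g | g < gens.length})
  have hinj : Function.Injective el := fun i j e => by
    have hi : (i : ℕ) < (els.map (wordKey w cs pts)).length := by rw [List.length_map]; exact i.2
    have hj : (j : ℕ) < (els.map (wordKey w cs pts)).length := by rw [List.length_map]; exact j.2
    refine Fin.ext ((hkeys.getElem_inj_iff (hi := hi) (hj := hj)).mp ?_)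
    rw [List.getElem_map, List.getElem_map, ← List.getD_eq_getElem els [] i.2,
      ← List.getD_eq_getElem els [] j.2]
    have : ∀ p ∈ pts, appW w cs (els.getD i []) p = appW w cs (els.getD j []) p := fun p hp => by
      rw [← appW_spec hc _ (hl els l1 i) ⟨p, hb.1 p hp⟩, ← appW_spec hc _ (hl els l1 j) ⟨p, hb.1 p hp⟩]
      show (ι (el i) _ : ℕ) = (ι (el j) _ : ℕ)
      rw [e]
    clear hi hj hb hkeys h
    induction pts with
    | nil => rfl
    | cons p ps ih =>
      show Nat.add (appW w cs (els.getD i []) p) (Nat.shiftLeft (wordKey w cs ps (els.getD i [])) w) =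
        Nat.add (appW w cs (els.getD j []) p) (Nat.shiftLeft (wordKey w cs ps (els.getD j [])) w)
      rw [this p (by simp), ih fun q hq => this q (List.mem_cons_of_mem _ hq)]
  have hstep : ∀ i : Fin els.length, ∀ g < gens.length,
      ∃ j : Fin els.length, (next.getD i []).getD g 0 = j ∧ ge g * el i = el j := by
    intro i g hg
    have hi := h i i.2
    simp only [syl2B, Bool.and_eq_true] at hi
    have hg' := allBelow_eq_true.mp hi.1 g hg
    simp only [Bool.and_eq_true, Nat.blt_eq] at hg'
    refine ⟨⟨_, hg'.1⟩, rfl, ?_⟩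
    have := eq_of_eqOn hc hb (a := gens.getD g [] ++ els.getD i [])
      (fun s hs => (List.mem_append.mp hs).elim (hl gens l2 g s) (hl els l1 i s))
      (hl els l1 _) hg'.2
    rwa [evalW_append] at this
  have hmem : ∀ i (hi : i < els.length), el ⟨i, hi⟩ ∈ P := by
    intro i
    induction i using Nat.strong_induction_on with
    | _ i ih =>
      intro hi
      have hh := h i hi
      simp only [syl2B, Bool.and_eq_true, Bool.or_eq_true, Nat.beq_eq, Nat.blt_eq] at hh
      rcases hh.2 with rfl | ⟨⟨⟨hp, hg⟩, he⟩, -⟩
      · show evalW gen (els.getD 0 []) ∈ P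
        rw [h0]; exact one_mem _
      · obtain ⟨j, hj, e⟩ := hstep ⟨_, hp.trans hi⟩ _ hg
        have : j = ⟨i, hi⟩ := Fin.ext (hj.symm.trans he)
        rw [← this, ← e]
        exact mul_mem (Subgroup.subset_closure ⟨_, hg, rfl⟩) (ih _ hp (hp.trans hi))
  have hpos : 0 < els.length := by rw [hlen]; positivity
  have hsub : ∀ z ∈ P, z ∈ Set.range el := by
    intro z hz
    have key : ∀ g < gens.length, ∀ y ∈ Set.range el, ge g * y ∈ Set.range el := by
      rintro g hg _ ⟨i, rfl⟩
      obtain ⟨j, -, e⟩ := hstep i g hg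
      exact ⟨j, e.symm⟩
    refine Subgroup.closure_induction_left (p := fun z _ => z ∈ Set.range el)
      ⟨⟨0, hpos⟩, by show evalW gen (els.getD 0 []) = 1; rw [h0]; rfl⟩ ?_ ?_ hz
    · rintro _ ⟨g, hg, rfl⟩ y _ hy
      exact key g hg y hy
    · rintro _ ⟨g, hg, rfl⟩ y _ ⟨i, rfl⟩
      have hinj' : Function.Injective fun v : Set.range el => (⟨ge g * v, key g hg v v.2⟩ : Set.range el) :=
        fun u v e => Subtype.ext (mul_left_cancel (congrArg Subtype.val e))
      obtain ⟨⟨v, hv⟩, e⟩ := Finite.injective_iff_surjective.mp hinj' ⟨el i, i, rfl⟩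
      have e' : ge g * v = el i := congrArg Subtype.val e
      rw [← e']
      simpa using hv
  have hP : (P : Set G) = Set.range el :=
    Set.Subset.antisymm hsub (by rintro _ ⟨i, rfl⟩; exact hmem i i.2)
  have hcardP : Nat.card P = 2 ^ a := by
    rw [← hlen, show Nat.card P = Nat.card (Set.range el) from Nat.card_congr (Equiv.setCongr hP),
      Nat.card_range_of_injective hinj, Nat.card_fin]
  have := Fact.mk Nat.prime_two
  let S : Sylow 2 G := Sylow.ofCard P (by rw [hcardP, ha])
  have hq2 : IsPGroup 2 (Subgroup.zpowers q) :=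
    IsPGroup.of_card (n := 1) (by rw [Nat.card_zpowers, hq, pow_one])
  obtain ⟨R, hR⟩ := hq2.exists_le_sylow
  obtain ⟨x, hx⟩ := MulAction.exists_smul_eq G R S
  have hmemS : x * q * x⁻¹ ∈ (S : Subgroup G) := by
    rw [← hx, Sylow.coe_subgroup_smul]
    exact Subgroup.smul_mem_pointwise_smul _ (MulAut.conj x) _ (hR (Subgroup.mem_zpowers q))
  obtain ⟨i, hi⟩ : x * q * x⁻¹ ∈ Set.range el := hsub _ hmemS
  have hq' : orderOf (x * q * x⁻¹) = 2 :=
    (orderOf_injective (MulAut.conj x).toMonoidHom (MulAut.conj x).injective q).trans hq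
  have hh := h i i.2
  simp only [syl2B, Bool.and_eq_true, Bool.or_eq_true, Nat.beq_eq, Nat.blt_eq] at hh
  rcases hh.2 with h0i | ⟨-, hk⟩
  · exfalso
    have : el i = 1 := by show evalW gen (els.getD i []) = 1; rw [h0i, h0]; rfl
    rw [← hi, this, orderOf_one] at hq'
    omega
  · rcases hk with hk | ⟨hk1, hk2⟩
    · exfalso
      have e : eqOn w cs pts (els.getD i [] ++ els.getD i []) [] = true := by
        refine allB_of_forall fun p hp => ?_
        rw [Nat.beq_eq, ← appW_spec hc _ (fun s hs => (List.mem_append.mp hs).elim (hl els l1 i s)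
          (hl els l1 i s)) ⟨p, hb.1 p hp⟩, evalW_append]
        show (ι (el i * el i) _ : ℕ) = _
        rw [hi, ← sq, ← hq', pow_orderOf_eq_one, map_one]
        rfl
      rw [e] at hk
      exact Bool.noConfusion hk
    · set c := (kinds.getD i (0, [])).2
      set u := tgts.getD (kinds.getD i (0, [])).1 []
      have hu : u ∈ tgts := by
        show tgts.getD _ [] ∈ tgts
        rw [List.getD_eq_getElem _ _ hk1]; exact List.getElem_mem hk1
      have hck : ∀ s ∈ c, s < k := by
        intro s hs
        by_cases hi' : (i : ℕ) < kinds.length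
        · refine hl _ l4 i s ?_
          rw [List.getD_eq_getElem _ _ (by rw [List.length_map]; exact hi'), List.getElem_map]
          simpa [c, List.getD_eq_getElem?_getD, hi'] using hs
        · simp [c, List.getD_eq_getElem?_getD, List.getElem?_eq_none (by omega : kinds.length ≤ i)] at hs
      have huk : ∀ s ∈ u, s < k := hl tgts l3 _
      have e := eq_of_eqOn hc hb (a := els.getD i [] ++ c) (b := c ++ u)
        (fun s hs => (List.mem_append.mp hs).elim (hl els l1 i s) (hck s))
        (fun s hs => (List.mem_append.mp hs).elim (hck s) (huk s)) hk2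
      rw [evalW_append, evalW_append] at e
      refine ⟨u, hu, isConj_iff.mpr ⟨x⁻¹ * evalW gen c, ?_⟩⟩
      have : evalW gen c * evalW gen u * (evalW gen c)⁻¹ = x * q * x⁻¹ := by
        rw [← hi, ← e]
        show evalW gen (els.getD i []) * _ * _ = evalW gen (els.getD i [])
        group
      calc x⁻¹ * evalW gen c * evalW gen u * (x⁻¹ * evalW gen c)⁻¹
          = x⁻¹ * (evalW gen c * evalW gen u * (evalW gen c)⁻¹) * x := by group
        _ = q := by rw [this]; group

end Cfsg.Agent.LeechModel
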