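import Cfsg.Agent.LeechModel.OutTwo
import Cfsg.Agent.LeechModel.Table

/-!
The outer automorphism group from checks on a coded permutation representation.
-/

set_option autoImplicit false

namespace Cfsg.Agent.LeechModel

open Cfsg.Agent.Compute Cfsg.Agent.StemCert

/-- A permutation is not the value of a normal form extending the given prefix. -/
noncomputable def siftB (n w : ℕ) (cs : List ℕ) (sc : ℕ) :
    List Lv → List ℕ → List ℕ → List ℕ → Bool :=
  fun Ls => List.rec (motive := fun _ => List ℕ → List ℕ → List ℕ → Bool)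
    (fun _ _ pre => !(allBelow n fun p => Nat.beq (appW w cs pre p) (getField w sc p)))
    (fun L _ rec bs js pre => List.rec (motive := fun _ => Bool) false
      (fun b bs' _ => List.rec (motive := fun _ => Bool)
        (allBelow L.size fun j => !Nat.beq (appW w cs (pre ++ L.word j) b) (getField w sc b))
        (fun j0 js' _ => Nat.blt j0 L.size &&
          Nat.beq (appW w cs (pre ++ L.word j0) b) (getField w sc b) &&
          rec bs' js' (pre ++ L.word j0)) js) bs) Ls

/-- The outer permutation conjugates each generator to a word. -/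
noncomputable def normB (n w k : ℕ) (cs : List ℕ) (sc : ℕ) (ws : List (List ℕ)) : Bool :=
  allBelow k fun s => allB (fun t => Nat.blt t k) (ws.getD s []) &&
    forceN (cs.getD s 0) fun c =>
      allBelow n fun p => Nat.beq (getField w sc (getField w c p)) (appW w cs (ws.getD s []) (getField w sc p))

/-- Only the base point is fixed by the lower generators, and the orbit is everything. -/
noncomputable def centB (n w : ℕ) (cs : List ℕ) (b : ℕ) (L : Lv) (rest : List ℕ) : Bool :=
  Nat.beq L.size n && Nat.blt b n &&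
    allB (fun s => Nat.beq (getField w (cs.getD s 0) b) b) rest &&
    allBelow n fun p => Nat.beq p b ||
      !(allB (fun s => Nat.beq (getField w (cs.getD s 0) p) p) rest)

variable {n w k : ℕ} {G : Type*} [Group G] {ι : G →* Equiv.Perm (Fin n)} {gen : ℕ → G}
  {cs pts : List ℕ}

theorem IsBase.injective (hb : IsBase ι pts) : Function.Injective ι := by
  refine (injective_iff_map_eq_one ι).mpr fun a ha => hb.2 a fun x _ => ?_
  rw [ha]; rfl

theorem siftB_ne (hc : Coded (w := w) (k := k) ι gen cs) {σ : Equiv.Perm (Fin n)} {sc : ℕ}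
    (hσ : ∀ p : Fin n, (σ p : ℕ) = getField w sc p) :
    ∀ {Ls : List Lv} {bs js pre : List ℕ}, wfB Ls = true → gensBelow k Ls = true →
      (∀ b ∈ bs, b < n) → distinctB w cs Ls bs = true → (∀ s ∈ pre, s < k) →
      siftB n w cs sc Ls bs js pre = true →
      ∀ y, Valid Ls y → ι (evalW gen pre * nf gen Lv.word Ls y) ≠ σ
  | [], _, _, pre, _, _, _, _, hpre, h => by
    rintro y hy he
    have hall : allBelow n (fun p => Nat.beq (appW w cs pre p) (getField w sc p)) = true := by
      refine allBelow_eq_true.mpr fun p hp => ?_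
      rw [Nat.beq_eq, ← hσ ⟨p, hp⟩, ← appW_spec hc pre hpre ⟨p, hp⟩, ← he, nf, mul_one]
    have h' : (!(allBelow n fun p => Nat.beq (appW w cs pre p) (getField w sc p))) = true := h
    rw [hall] at h'
    exact Bool.noConfusion h'
  | _ :: _, [], _, _, _, _, _, hd, _, _ => by simp [distinctB] at hd
  | L :: Ls, b :: bs, js, pre, hw, hg, hlt, hd, hpre, h => by
    obtain ⟨-, -, hword, -, hw'⟩ := wfB_cons hw
    have hg' : (allB (fun s => Nat.blt s k) L.gens && gensBelow k Ls) = true := hg
    have hd' : (fixBelow w cs Ls b &&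
      allBelow L.size (fun j =>
        allBelow j (fun j' => !Nat.beq (appW w cs (L.word j) b) (appW w cs (L.word j') b))) &&
      distinctB w cs Ls bs) = true := hd
    simp only [Bool.and_eq_true] at hg' hd'
    rintro y ⟨j, r, rfl, hj, hr⟩ he
    have hbn : b < n := hlt b (by simp)
    have hlet : ∀ i < L.size, ∀ t ∈ pre ++ L.word i, t < k := fun i hi t ht => by
      rcases List.mem_append.mp ht with h1 | h1
      exacts [hpre t h1, gens_lt hg (by simp) (hword i hi t h1)]
    simp only [nf, List.headD_cons, List.tail_cons] at he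
    rw [← mul_assoc, ← evalW_append] at he
    have hb' : appW w cs (pre ++ L.word j) b = getField w sc b := by
      have := congrArg (fun s => (s ⟨b, hbn⟩ : ℕ)) he
      rw [map_mul, Equiv.Perm.mul_apply, nf_fix hc (b := ⟨b, hbn⟩) hw' hg'.2 hd'.1.1 hr,
        appW_spec hc _ (hlet j hj), hσ] at this
      exact this
    cases js with
    | nil =>
      have h' : allBelow L.size (fun j =>
          !Nat.beq (appW w cs (pre ++ L.word j) b) (getField w sc b)) = true := h
      have := allBelow_eq_true.mp h' j hj
      rw [hb'] at this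
      simp at this
    | cons j0 js =>
      have h' : (Nat.blt j0 L.size &&
          Nat.beq (appW w cs (pre ++ L.word j0) b) (getField w sc b) &&
          siftB n w cs sc Ls bs js (pre ++ L.word j0)) = true := h
      simp only [Bool.and_eq_true, Nat.blt_eq, Nat.beq_eq] at h'
      obtain ⟨⟨hj0, e0⟩, hrec⟩ := h'
      have hjj : j = j0 := by
        have e1 : appW w cs (L.word j) b = appW w cs (L.word j0) b := by
          have l1 := appW_spec hc (pre ++ L.word j) (hlet j hj) ⟨b, hbn⟩
          have l2 := appW_spec hc (pre ++ L.word j0) (hlet j0 hj0) ⟨b, hbn⟩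
          rw [evalW_append, map_mul, Equiv.Perm.mul_apply] at l1 l2
          have e2 := (ι (evalW gen pre)).injective (Fin.ext (l1.trans ((hb'.trans e0.symm).trans l2.symm)))
          rw [← appW_spec hc _ (fun t ht => gens_lt hg (by simp) (hword j hj t ht)) ⟨b, hbn⟩,
            ← appW_spec hc _ (fun t ht => gens_lt hg (by simp) (hword j0 hj0 t ht)) ⟨b, hbn⟩, e2]
        rcases Nat.lt_trichotomy j j0 with h1 | h1 | h1
        · have := allBelow_eq_true.mp (allBelow_eq_true.mp hd'.1.2 j0 hj0) j h1
          rw [e1] at this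
          simp at this
        · exact h1
        · have := allBelow_eq_true.mp (allBelow_eq_true.mp hd'.1.2 j hj) j0 h1
          rw [e1] at this
          simp at this
      subst hjj
      exact siftB_ne hc hσ hw' hg'.2 (fun c hc' => hlt c (List.mem_cons_of_mem _ hc')) hd'.2
        (hlet j hj) hrec r hr he

/-- The permutation commuting with the image is trivial. -/
theorem commutant_trivial (hc : Coded (w := w) (k := k) ι gen cs) {b : ℕ} {L : Lv} {rest : List ℕ}
    (hrest : ∀ s ∈ rest, s < k) (hL : ∀ j < L.size, ∀ s ∈ L.word j, s < k)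
    (hd : ∀ i j, i < L.size → j < L.size → appW w cs (L.word i) b = appW w cs (L.word j) b → i = j)
    (h : centB n w cs b L rest = true) {c : Equiv.Perm (Fin n)}
    (hcomm : ∀ a : G, c * ι a = ι a * c) : c = 1 := by
  simp only [centB, Bool.and_eq_true, Nat.beq_eq, Nat.blt_eq] at h
  obtain ⟨⟨⟨hn, hb⟩, hfix⟩, hmove⟩ := h
  have hap : ∀ (a : G) (p : Fin n), c (ι a p) = ι a (c p) := fun a p =>
    congrFun (congrArg (fun e : Equiv.Perm (Fin n) => (e : Fin n → Fin n)) (hcomm a)) p
  have hcb : c ⟨b, hb⟩ = ⟨b, hb⟩ := by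
    have hall : ∀ s ∈ rest, getField w (cs.getD s 0) (c ⟨b, hb⟩ : ℕ) = (c ⟨b, hb⟩ : ℕ) := by
      intro s hs
      have h1 : ι (gen s) ⟨b, hb⟩ = ⟨b, hb⟩ := Fin.ext (by
        rw [hc s (hrest s hs)]
        exact Nat.eq_of_beq_eq_true (allB_spec hfix s hs))
      rw [← hc s (hrest s hs) (c ⟨b, hb⟩), ← hap, h1]
    have h2 := allBelow_eq_true.mp hmove _ (c ⟨b, hb⟩).2
    simp only [Bool.or_eq_true, Nat.beq_eq, Bool.not_eq_true'] at h2
    rcases h2 with h2 | h2
    · exact Fin.ext h2
    · rw [allB_of_forall fun s hs => by rw [hall s hs]; exact Nat.beq_refl _] at h2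
      exact Bool.noConfusion h2
  let f : Fin L.size → Fin n := fun j => ι (evalW gen (L.word j)) ⟨b, hb⟩
  have hf : Function.Bijective f := (Nat.bijective_iff_injective_and_card f).mpr
    ⟨fun i j e => Fin.ext (hd i j i.2 j.2 (by
      rw [← appW_spec hc _ (hL i i.2) ⟨b, hb⟩, ← appW_spec hc _ (hL j j.2) ⟨b, hb⟩]
      exact congrArg Fin.val e)), by simp [hn]⟩
  refine Equiv.ext fun p => ?_
  obtain ⟨j, rfl⟩ := hf.2 p
  show c (ι _ _) = ι _ _
  rw [hap, hcb]

/-- An automorphism induced by a permutation. -/
theorem exists_twist [Finite G] (hc : Coded (w := w) (k := k) ι gen cs) (hb : IsBase ι pts)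
    (hgen : ∀ a : G, a ∈ Submonoid.closure (gen '' {s | s < k})) {sc : ℕ} (hs : codePermB w n sc = true)
    {ws : List (List ℕ)} (h : normB n w k cs sc ws = true) :
    ∃ (σ : Equiv.Perm (Fin n)) (τ : MulAut G),
      (∀ p : Fin n, (σ p : ℕ) = getField w sc p) ∧ ∀ a, ι (τ a) * σ = σ * ι a := by
  obtain ⟨hmap, hbij⟩ := codePerm_of_check hs
  let σ : Equiv.Perm (Fin n) := Equiv.ofBijective _ hbij
  have hσ : ∀ p : Fin n, (σ p : ℕ) = getField w sc p := fun p => rfl
  have hex : ∀ a : G, ∃ a', ι a' = σ * ι a * σ⁻¹ := by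
    intro a
    induction hgen a using Submonoid.closure_induction with
    | mem x hx =>
      obtain ⟨s, hs', rfl⟩ := hx
      have hs'' := allBelow_eq_true.mp h s hs'
      simp only [Bool.and_eq_true, forceN_eq] at hs''
      refine ⟨evalW gen (ws.getD s []), eq_mul_inv_of_mul_eq (Equiv.ext fun p => Fin.ext ?_)⟩
      rw [Equiv.Perm.mul_apply, Equiv.Perm.mul_apply,
        appW_spec hc _ (fun t ht => Nat.blt_eq.mp (allB_spec hs''.1 t ht)), hσ p, hσ, hc s hs' p]
      exact (Nat.eq_of_beq_eq_true (allBelow_eq_true.mp hs''.2 p p.2)).symm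
    | one => exact ⟨1, by simp⟩
    | mul x y _ _ hx hy =>
      obtain ⟨x', hx'⟩ := hx
      obtain ⟨y', hy'⟩ := hy
      exact ⟨x' * y', by rw [map_mul, hx', hy', map_mul]; group⟩
  choose f hf using hex
  have hinj := IsBase.injective hb
  let F : G →* G := MonoidHom.mk' f fun a b => hinj (by
    rw [hf, map_mul, map_mul, hf, hf]; group)
  have hFinj : Function.Injective F := fun a b e => hinj (by
    have := congrArg ι e
    rw [show F a = f a from rfl, show F b = f b from rfl, hf, hf] at this
    exact mul_left_cancel (mul_right_cancel this))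
  exact ⟨σ, MulEquiv.ofBijective F (Finite.injective_iff_bijective.mp hFinj), hσ, fun a => by
    show ι (f a) * σ = _
    rw [hf, inv_mul_cancel_right]⟩

/-- The data and checks for two outer classes. -/
structure OutChecks (n w k : ℕ) (cs pts xs : List ℕ) (D : List Lv) (T : Table)
    (tw : List ℕ) (conds : List (List ℕ × ℕ)) (jτ eτ mτ : ℕ) (sc : ℕ) (ws : List (List ℕ))
    (gw : List (List ℕ)) (hw : List ℕ) (js : List ℕ) : Prop where
  /-- the first generator has order eleven -/
  kpos : 0 < k
  pow : eqOn w cs pts (List.replicate 11 0) [] = true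
  ne : eqOn w cs pts [0] [] = false
  xcodes : allBelow 11 (fun m => allBelow n fun p =>
    Nat.beq (getField w (xs.getD m 0) p) (appW w cs (List.replicate m 0) p)) = true
  norm : allB (fun t => Nat.blt t k) hw = true ∧ eqOn w cs pts (hw ++ [0]) ([0, 0, 0] ++ hw) = true
  twk : allB (fun t => Nat.blt t k) tw = true
  size : 0 < T.size ∧ jτ < T.size ∧ eτ < 2 ∧ mτ < 11
  link : ∀ j < T.size, T.linkB n w k cs xs tw j (j + 1) = true
  refute : ∀ j < T.size, T.refuteB n w xs conds [(0, 0), (jτ, eτ)] j (j + 1) = true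
  condk : ∀ c ∈ conds, ∀ a ∈ c.1, a < 11
  condt : allB (fun c => eqOn w (condCodes xs 1 (T.rep 0)) pts (condWord c) []) conds = true
  gwords : allBelow k (fun s => allB (fun t => Nat.blt t 12) (gw.getD s []) &&
    eqOn w (condCodes xs 1 (T.rep 0) ++ [cs.getD s 0]) pts [12] (gw.getD s [])) = true
  perm : codePermB w n sc = true
  normal : normB n w k cs sc ws = true
  twistX : allBelow n (fun p => Nat.beq (getField w sc (getField w (cs.getD 0 0) p))
    (getField w (xs.getD (signExp eτ) 0) (getField w sc p))) = true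
  twistT : allBelow n (fun p => Nat.beq (getField w sc (getField w (T.rep 0) p))
    (T.img w xs jτ mτ (getField w sc p))) = true
  sift : siftB n w cs sc D pts js [] = true
  cent : centB n w cs (pts.getD 0 0) (D.getD 0 noLv) (D.getD 1 noLv).gens = true

theorem condCodes_getD_last {xs : List ℕ} {e c d : ℕ} :
    (condCodes xs e c ++ [d]).getD 12 0 = d := by
  simp [condCodes, List.getD_eq_getElem?_getD]

/-- The criterion. -/
theorem card_out_of_checks [Finite G] {xs : List ℕ} {D : List Lv} {T : Table} {tw : List ℕ}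
    {conds : List (List ℕ × ℕ)} {jτ eτ mτ sc : ℕ} {ws gw : List (List ℕ)} {hwd js : List ℕ}
    (C : OutChecks n w k cs pts xs D T tw conds jτ eτ mτ sc ws gw hwd js)
    (hc : Coded (w := w) (k := k) ι gen cs) (hb : IsBase ι pts)
    (hwf : wfB D = true) (hg : gensBelow k D = true) (hd : distinctB w cs D pts = true)
    (hforms : numForms D = Nat.card G) (h121 : ¬ 121 ∣ Nat.card G)
    (hclass : ∀ q, IsConj (evalW gen tw) q → ∃ j < T.size, ∃ (m : ℕ) (r : G),
      m < 11 ∧ HasCode ι w r (T.rep j) ∧ q = gen 0 ^ m * r * (gen 0 ^ m)⁻¹)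
    (hsame : ∀ φ : MulAut G, IsConj (evalW gen tw) (φ (evalW gen tw))) :
    Nat.card (Cfsg.Out G) = 2 := by
  have hgen := generates_of_card hc hwf hg hb.1 hd hforms
  have hinj := IsBase.injective hb
  have hX : PowCodes ι w (gen 0) xs := powCodes_of_check hc hb 0 C.kpos C.pow C.xcodes
  have htw : ∀ s ∈ tw, s < k := fun s hs => Nat.blt_eq.mp (allB_spec C.twk s hs)
  set t := evalW gen tw
  set X := gen 0 with hXdef
  have hx11 : orderOf X = 11 := by
    have := Fact.mk (show Nat.Prime 11 by norm_num)
    refine orderOf_eq_prime hX.1 fun e => ?_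
    have : eqOn w cs pts [0] [] = true := by
      refine allB_of_forall fun b hb' => ?_
      rw [Nat.beq_eq, ← appW_spec hc [0] (by simp [C.kpos]) ⟨b, hb.1 b hb'⟩,
        show evalW gen [0] = X by simp [evalW, X], e, map_one]
      rfl
    rw [C.ne] at this
    exact Bool.noConfusion this
  -- the code of `t`
  obtain ⟨a0, ha0⟩ := Table.exists_rep hc hX htw C.link 0 C.size.1
  have ht0 : HasCode ι w t (T.rep 0) := by
    intro p
    have hl := allBelow_split (f := fun j => cond (Nat.beq j 0)
      (allBelow n fun p => Nat.beq (getField w (T.rep j) p) (appW w cs tw p))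
      (Nat.blt (T.par j) j && Nat.blt (Nat.mod (T.via j) 256) k && Nat.blt (Nat.div (T.via j) 256) 11 &&
        forceN (cs.getD (Nat.mod (T.via j) 256) 0) fun s => forceN (xs.getD (Nat.div (T.via j) 256) 0) fun x =>
        forceN (T.rep j) fun c => forceN (T.rep (T.par j)) fun d =>
          allBelow n fun p => Nat.beq (getField w c (getField w s (getField w x p)))
            (getField w s (getField w x (getField w d p)))))
      (C.link 0 C.size.1) (le_refl 0) Nat.one_pos
    rw [appW_spec hc tw htw p]
    exact (Nat.eq_of_beq_eq_true (allBelow_eq_true.mp hl p p.2)).symm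
  have hcode : ∀ {r r' : G} {c : ℕ}, HasCode ι w r c → HasCode ι w r' c → r = r' :=
    fun h h' => hinj (Equiv.ext fun p => Fin.ext ((h p).trans (h' p).symm))
  have hfam : Coded (w := w) (k := 12) ι (fun a => if a < 11 then X ^ a else t)
      (condCodes xs 1 (T.rep 0)) := by
    have := cond_coded (e := 1) hX ht0
    simpa using this
  have hcond : ∀ c ∈ conds, evalW (fun a => if a < 11 then X ^ a else t) (condWord c) = 1 :=
    fun c hc' => eq_of_eqOn hfam hb (b := []) (condWord_lt (C.condk c hc')) (by simp)
      (allB_spec C.condt c hc')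
  have hgen2 : Subgroup.closure ({X, t} : Set G) = ⊤ := by
    refine eq_top_iff.mpr fun a _ => ?_
    refine (Submonoid.closure_le (S := (Subgroup.closure ({X, t} : Set G)).toSubmonoid)).mpr ?_
      (hgen a)
    rintro _ ⟨s, hs, rfl⟩
    have h' := allBelow_eq_true.mp C.gwords s hs
    simp only [Bool.and_eq_true] at h'
    have hfam' : Coded (w := w) (k := 13) ι
        (fun a => if a < 12 then (if a < 11 then X ^ a else t) else gen s)
        (condCodes xs 1 (T.rep 0) ++ [cs.getD s 0]) := by
      intro a ha x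
      show (ι (if a < 12 then (if a < 11 then X ^ a else t) else gen s) x : ℕ) = _
      rcases Nat.lt_or_ge a 12 with h12 | h12
      · rw [if_pos h12, hfam a h12 x, List.getD_append _ _ _ _ (by simp [condCodes]; omega)]
      · obtain rfl : a = 12 := by omega
        rw [if_neg (lt_irrefl 12), hc s hs, condCodes_getD_last]
    have e := eq_of_eqOn hfam' hb (a := [12]) (b := gw.getD s []) (by simp)
      (fun t ht => by have := Nat.blt_eq.mp (allB_spec h'.1 t ht); omega) h'.2
    have hsimp : evalW (fun a => if a < 12 then (if a < 11 then X ^ a else t) else gen s) [12] = gen s := by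
      simp [evalW]
    rw [hsimp] at e
    show gen s ∈ Subgroup.closure ({X, t} : Set G)
    rw [e]
    refine list_prod_mem fun y hy => ?_
    obtain ⟨a, ha, rfl⟩ := List.mem_map.mp hy
    have h12 := Nat.blt_eq.mp (allB_spec h'.1 a ha)
    rw [if_pos h12]
    split_ifs
    · exact pow_mem (Subgroup.subset_closure (by simp)) _
    · exact Subgroup.subset_closure (by simp)
  have hnorm : ∃ h : G, h * X * h⁻¹ = X ^ 3 := by
    refine ⟨evalW gen hwd, mul_inv_eq_iff_eq_mul.mpr ?_⟩
    have hwk : ∀ s ∈ hwd, s < k := fun s hs => Nat.blt_eq.mp (allB_spec C.norm.1 s hs)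
    have := eq_of_eqOn hc hb (a := hwd ++ [0]) (b := [0, 0, 0] ++ hwd)
      (fun s hs => by
        rcases List.mem_append.mp hs with h | h
        · exact hwk s h
        · rw [List.mem_singleton.mp h]; exact C.kpos)
      (fun s hs => by
        rcases List.mem_append.mp hs with h | h
        · have : s = 0 := by simpa using h
          rw [this]; exact C.kpos
        · exact hwk s h) C.norm.2
    rw [evalW_append, evalW_append] at this
    simpa [evalW, X, pow_succ, mul_assoc] using this
  obtain ⟨σ, τ, hσ, hτσ⟩ := exists_twist hc hb hgen C.perm C.normal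
  have hτx : τ X = X ^ signExp eτ := by
    refine hinj (mul_right_cancel (b := σ) ((hτσ X).trans (Equiv.ext fun p => Fin.ext ?_)))
    have he : signExp eτ < 11 := by unfold signExp; cases Nat.beq eτ 0 <;> simp
    rw [Equiv.Perm.mul_apply, Equiv.Perm.mul_apply, hX.2 _ he, hσ p, hσ, hc 0 C.kpos p]
    exact Nat.eq_of_beq_eq_true (allBelow_eq_true.mp C.twistX p p.2)
  obtain ⟨aτ, haτ⟩ := Table.exists_rep hc hX htw C.link jτ C.size.2.1
  have hτt : τ t = X ^ mτ * (aτ * t * aτ⁻¹) * (X ^ mτ)⁻¹ := by
    refine hinj (mul_right_cancel (b := σ) ((hτσ t).trans (Equiv.ext fun p => Fin.ext ?_)))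
    rw [Equiv.Perm.mul_apply, Equiv.Perm.mul_apply, img_spec hX haτ C.size.2.2.2, hσ p, hσ, ht0 p]
    exact Nat.eq_of_beq_eq_true (allBelow_eq_true.mp C.twistT p p.2)
  have hpm : τ X = X ∨ τ X = X ^ 10 := by
    rw [hτx]; unfold signExp
    cases Nat.beq eτ 0 <;> simp
  refine card_out_eq_two (τ := τ) hgen2 hx11 h121 hnorm hpm ?_ ?_
  · intro φ hφ
    obtain ⟨e, he, hφe⟩ : ∃ e < 2, φ X = X ^ signExp e := by
      rcases hφ with h | h
      · exact ⟨0, by norm_num, by rw [h]; exact (pow_one X).symm⟩
      · exact ⟨1, by norm_num, h⟩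
    obtain ⟨j, hj, m, r, hm, hr, hq⟩ := hclass _ (hsame φ)
    have hmem := Table.solutions hX C.condk hcond C.refute φ he hφe hj hr hq
    simp only [List.mem_cons, List.not_mem_nil, or_false, Prod.mk.injEq] at hmem
    rcases hmem with ⟨rfl, rfl⟩ | ⟨rfl, rfl⟩
    · refine ⟨m, 1, Or.inl rfl, by rw [hφe]; exact pow_one X, ?_⟩
      rw [hq, hcode hr ht0]
      rfl
    · refine ⟨m + (11 - mτ), τ, Or.inr rfl, by rw [hφe, hτx], ?_⟩
      rw [hq, hcode hr haτ, hτt, show X ^ (m + (11 - mτ)) = X ^ m * (X ^ mτ)⁻¹ by
        rw [pow_add, show X ^ (11 - mτ) = (X ^ mτ)⁻¹ from eq_inv_of_mul_eq_one_left (by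
          rw [← pow_add, Nat.sub_add_cancel (le_of_lt C.size.2.2.2), hX.1])]]
      show _ = _
      simp only [t]
      group
  · intro g hgτ
    have hw0 : ∀ a : G, ι (g * a * g⁻¹) * σ = σ * ι a := fun a => by
      have := hτσ a
      rwa [← hgτ] at this
    have hcomm : ∀ a : G, ((ι g)⁻¹ * σ) * ι a = ι a * ((ι g)⁻¹ * σ) := by
      intro a
      rw [mul_assoc, ← hw0 a, map_mul, map_mul, map_inv]
      group
    obtain ⟨L, rest, hD⟩ : ∃ L rest, D = L :: rest := by
      cases D with
      | nil => have := C.cent; simp [centB, noLv] at this; exact absurd this.1.1.1.symm (by omega)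
      | cons L rest => exact ⟨L, rest, rfl⟩
    have hone := C.cent
    subst hD
    obtain ⟨b, bs, hpts⟩ : ∃ b bs, pts = b :: bs := by
      cases pts with
      | nil => simp [distinctB] at hd
      | cons b bs => exact ⟨b, bs, rfl⟩
    subst hpts
    obtain ⟨-, -, hword, -, -⟩ := wfB_cons hwf
    have hd' : (fixBelow w cs rest b &&
      allBelow L.size (fun j =>
        allBelow j (fun j' => !Nat.beq (appW w cs (L.word j) b) (appW w cs (L.word j') b))) &&
      distinctB w cs rest bs) = true := hd
    simp only [Bool.and_eq_true] at hd'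
    have hdist : ∀ i j, i < L.size → j < L.size → appW w cs (L.word i) b = appW w cs (L.word j) b → i = j := by
      intro i j hi hj e
      rcases Nat.lt_trichotomy i j with h1 | h1 | h1
      · have := allBelow_eq_true.mp (allBelow_eq_true.mp hd'.1.2 j hj) i h1
        rw [e] at this
        simp at this
      · exact h1
      · have := allBelow_eq_true.mp (allBelow_eq_true.mp hd'.1.2 i hi) j h1
        rw [e] at this
        simp at this
    have hrest : ∀ s ∈ ((L :: rest).getD 1 noLv).gens, s < k := by
      intro s hs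
      cases rest with
      | nil => simp [noLv] at hs
      | cons L1 r => exact gens_lt hg (by simp) (show s ∈ L1.gens by simpa using hs)
    have h1 := commutant_trivial hc (b := b) hrest
      (fun j hj s hs => gens_lt hg (by simp) (hword j hj s hs)) hdist hone hcomm
    have hσg : ι g = σ := inv_mul_eq_one.mp h1
    obtain ⟨y, hy⟩ : ∃ y, Valid (L :: rest) y ∧ nf gen Lv.word (L :: rest) y = g := by
      classical
      have hinjf := nf_injective_of_check hc hwf hg hb.1 hd
      let f : forms (L :: rest) → G := fun y => nf gen Lv.word (L :: rest) y.1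
      have hbij : Function.Bijective f := (Nat.bijective_iff_injective_and_card f).mpr
        ⟨fun u v e => Subtype.ext (hinjf _ _ (valid_of_mem_forms u.2) (valid_of_mem_forms v.2) e),
          by simp [card_forms, hforms]⟩
      obtain ⟨y, hy⟩ := hbij.2 g
      exact ⟨y.1, valid_of_mem_forms y.2, hy⟩
    refine siftB_ne hc hσ hwf hg hb.1 hd (by simp) C.sift y hy.1 ?_
    rw [show evalW gen [] = 1 from rfl, one_mul, hy.2, hσg]

end Cfsg.Agent.LeechModel
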