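import Cfsg.Agent.Compute.Perm
import Cfsg.Agent.StemCert.Perm

/-!
Groups of pairs of permutations with a checked chain on the disjoint union of the two sets of points.
-/

set_option autoImplicit false

namespace Cfsg.Agent.LeechModel

open Cfsg.Agent.Compute Cfsg.Agent.StemCert

/-- A pair of permutations as one permutation. -/
noncomputable def glueHom (n m : ℕ) : Equiv.Perm (Fin n) × Equiv.Perm (Fin m) →* Equiv.Perm (Fin (n + m)) :=
  ((finSumFinEquiv (m := n) (n := m)).permCongrHom.toMonoidHom).comp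
    (Equiv.Perm.sumCongrHom (Fin n) (Fin m))

theorem glueHom_injective (n m : ℕ) : Function.Injective (glueHom n m) :=
  (finSumFinEquiv (m := n) (n := m)).permCongrHom.injective.comp Equiv.Perm.sumCongrHom_injective

/-- A code is glued from two codes. -/
noncomputable def glueB (w v u n m : ℕ) (c a b : ℕ) : Bool :=
  codePermB w (Nat.add n m) c && codePermB u m b &&
    allBelow n (fun i => Nat.beq (getField w c i) (getField v a i)) &&
    allBelow m (fun i => Nat.beq (getField w c (Nat.add n i)) (Nat.add n (getField u b i)))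

theorem glue_den {w v u n m c a b : ℕ} (hw : n + m ≤ 2 ^ w) (hpos : 0 < n + m)
    (hu : m ≤ 2 ^ u) (hmpos : 0 < m) (σ : Equiv.Perm (Fin n))
    (hσ : ∀ i : Fin n, (σ i : ℕ) = getField v a i) (h : glueB w v u n m c a b = true) :
    glueHom n m (σ, (permRep u m (Equiv.refl _) hu hmpos).den b) =
      (permRep w (n + m) (Equiv.refl _) hw hpos).den c := by
  simp only [glueB, Bool.and_eq_true, allBelow_eq_true, Nat.beq_eq] at h
  obtain ⟨⟨⟨hp, he⟩, h1⟩, h2⟩ := h
  have hp' : codePermB w (n + m) c = true := hp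
  refine (denPerm_ext _ (codePerm_of_check hp') _ fun i => ?_).symm
  have hg : glueHom n m (σ, (permRep u m (Equiv.refl _) hu hmpos).den b) =
      (finSumFinEquiv (m := n) (n := m)).permCongr
        (Equiv.sumCongr σ ((permRep u m (Equiv.refl _) hu hmpos).den b)) := rfl
  refine Fin.addCases (fun j => ?_) (fun j => ?_) i <;> apply Fin.ext
  · rw [Equiv.refl_apply, Equiv.refl_apply, hg, Equiv.permCongr_apply,
      finSumFinEquiv_symm_apply_castAdd, Equiv.sumCongr_apply, Sum.map_inl,
      finSumFinEquiv_apply_left, Fin.val_castAdd, hσ]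
    exact (h1 j j.2).symm
  · rw [Equiv.refl_apply, Equiv.refl_apply, hg, Equiv.permCongr_apply,
      finSumFinEquiv_symm_apply_natAdd, Equiv.sumCongr_apply, Sum.map_inr,
      finSumFinEquiv_apply_right, Fin.val_natAdd]
    refine Eq.trans ?_ (h2 j j.2).symm
    show n + _ = n + _
    congr 1
    exact congrArg Fin.val (denPerm_apply (Equiv.refl (Fin m)) (codePerm_of_check he) j)

/-- The subgroup generated by pairs has the order of a checked chain. -/
theorem card_closure_pairs {w v u n m k : ℕ} (hw : n + m ≤ 2 ^ w) (hpos : 0 < n + m)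
    (hu : m ≤ 2 ^ u) (hmpos : 0 < m) {σ : ℕ → Equiv.Perm (Fin n)} {cs as bs : List ℕ}
    (hσ : ∀ s < k, ∀ i : Fin n, (σ s i : ℕ) = getField v (as.getD s 0) i)
    (hg : allBelow k (fun s => glueB w v u n m (cs.getD s 0) (as.getD s 0) (bs.getD s 0)) = true)
    {K : List Level} (hlen : cs.length = k) (htop : cs = topGens K)
    (hK : (permRep w (n + m) (Equiv.refl _) hw hpos).checkChain K = true) :
    Nat.card (Subgroup.closure ((fun s => ((σ s, (permRep u m (Equiv.refl _) hu hmpos).den (bs.getD s 0)) :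
      Equiv.Perm (Fin n) × Equiv.Perm (Fin m))) '' {s | s < k})) = chainSize K := by
  rw [← (permRep w (n + m) (Equiv.refl _) hw hpos).card_chainGroup K hK,
    ← Subgroup.card_map_of_injective (glueHom_injective n m), MonoidHom.map_closure,
    Rep.chainGroup, Rep.span, Set.image_image]
  suffices e : (fun s => glueHom n m ((σ s, (permRep u m (Equiv.refl _) hu hmpos).den (bs.getD s 0)) :
      Equiv.Perm (Fin n) × Equiv.Perm (Fin m))) '' {s | s < k} =
      (permRep w (n + m) (Equiv.refl _) hw hpos).den '' {g | g ∈ topGens K} by rw [e]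
  have hd : ∀ s < k, glueHom n m (σ s, (permRep u m (Equiv.refl _) hu hmpos).den (bs.getD s 0)) =
      (permRep w (n + m) (Equiv.refl _) hw hpos).den (cs.getD s 0) := fun s hs =>
    glue_den hw hpos hu hmpos _ (hσ s hs) (allBelow_eq_true.mp hg s hs)
  ext y
  constructor
  · rintro ⟨s, hs, rfl⟩
    refine ⟨cs.getD s 0, ?_, (hd s hs).symm⟩
    show _ ∈ topGens K
    rw [← htop, List.getD_eq_getElem _ _ (hlen.symm ▸ hs)]
    exact List.getElem_mem _
  · rintro ⟨c, hc, rfl⟩
    obtain ⟨s, hs, rfl⟩ := List.getElem_of_mem (show c ∈ cs from htop.symm ▸ hc)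
    refine ⟨s, hlen ▸ hs, ?_⟩
    simp only
    rw [hd s (hlen ▸ hs), List.getD_eq_getElem _ _ hs]

/-- A normal subgroup of order two is central. -/
theorem le_center_of_card_two {Γ : Type*} [Group Γ] {K : Subgroup Γ} [K.Normal]
    (hK : Nat.card K = 2) : K ≤ Subgroup.center Γ := by
  intro g hg
  rw [Subgroup.mem_center_iff]
  intro b
  obtain ⟨y, -, huniq⟩ := (Nat.card_eq_two_iff' (1 : K)).mp hK
  by_cases h1 : g = 1
  · simp [h1]
  have hb : b * g * b⁻¹ ∈ K := (inferInstance : K.Normal).conj_mem g hg b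
  have hb1 : b * g * b⁻¹ ≠ 1 := fun h => h1 (conj_eq_one_iff.mp h)
  have e := (huniq ⟨_, hb⟩ fun h => hb1 (congrArg Subtype.val h)).trans
    (huniq ⟨g, hg⟩ fun h => h1 (congrArg Subtype.val h)).symm
  exact mul_inv_eq_iff_eq_mul.mp (congrArg Subtype.val e)

end Cfsg.Agent.LeechModel
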