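import Cfsg.Agent.LeechModel.Table

/-!
Checks of tables given in intervals.
-/

set_option autoImplicit false

namespace Cfsg.Agent.LeechModel

open Cfsg.Agent.Compute Cfsg.Agent.StemCert

theorem allBelow_narrow {f : ℕ → Bool} {lo hi j : ℕ}
    (h : allBelow (hi - lo) (fun i => f (Nat.add lo i)) = true) (h1 : lo ≤ j) (h2 : j < hi) :
    allBelow (j + 1 - j) (fun i => f (Nat.add j i)) = true := by
  refine allBelow_eq_true.mpr fun i hi' => ?_
  obtain rfl : i = 0 := by omega
  show f (j + 0) = true
  rw [Nat.add_zero]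
  exact allBelow_split h h1 h2

/-- Covering by consecutive intervals of the given length. -/
theorem of_chunks {P : ℕ → ℕ → Prop} {size len cnt : ℕ} (hcov : size ≤ len * cnt)
    (hnarrow : ∀ lo hi j, P lo hi → lo ≤ j → j < hi → P j (j + 1))
    (h : ∀ c < cnt, P (len * c) (min (len * (c + 1)) size)) : ∀ j < size, P j (j + 1) := by
  intro j hj
  have hlen : 0 < len := Nat.pos_of_ne_zero fun h0 => by rw [h0, Nat.zero_mul] at hcov; omega
  have hc : j / len < cnt := by
    rw [Nat.div_lt_iff_lt_mul hlen, Nat.mul_comm]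
    omega
  refine hnarrow _ _ j (h _ hc) (Nat.mul_div_le j len) (lt_min ?_ hj)
  exact Nat.lt_mul_div_succ j hlen

variable {T : Table} {n w k : ℕ} {cs xs tw pts : List ℕ}

theorem Table.link_of_chunks {len cnt : ℕ} (hcov : T.size ≤ len * cnt)
    (h : ∀ c < cnt, T.linkB n w k cs xs tw (len * c) (min (len * (c + 1)) T.size) = true) :
    ∀ j < T.size, T.linkB n w k cs xs tw j (j + 1) = true :=
  of_chunks (P := fun a b => T.linkB n w k cs xs tw a b = true) hcov
    (fun _ _ _ h h1 h2 => allBelow_narrow (f := fun j => cond (Nat.beq j 0)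
      (allBelow n fun p => Nat.beq (getField w (T.rep j) p) (appW w cs tw p))
      (Nat.blt (T.par j) j && Nat.blt (Nat.mod (T.via j) 256) k && Nat.blt (Nat.div (T.via j) 256) 11 &&
        forceN (cs.getD (Nat.mod (T.via j) 256) 0) fun s => forceN (xs.getD (Nat.div (T.via j) 256) 0) fun x =>
        forceN (T.rep j) fun c => forceN (T.rep (T.par j)) fun d =>
          allBelow n fun p => Nat.beq (getField w c (getField w s (getField w x p)))
            (getField w s (getField w x (getField w d p))))) h h1 h2) h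

theorem Table.key_of_chunks {len cnt : ℕ} (hcov : T.size ≤ len * cnt)
    (h : ∀ c < cnt, T.keyB w xs pts (len * c) (min (len * (c + 1)) T.size) = true) :
    ∀ j < T.size, T.keyB w xs pts j (j + 1) = true :=
  of_chunks (P := fun a b => T.keyB w xs pts a b = true) hcov
    (fun _ _ _ h h1 h2 => allBelow_narrow (f := fun j => allBelow 11 fun m =>
      Nat.blt (T.posAt (Nat.add (Nat.mul 11 j) m)) (Nat.mul 11 T.size) &&
        Nat.beq (T.sorted.get 0 (T.posAt (Nat.add (Nat.mul 11 j) m)))
          (Nat.add (Nat.mul (T.key w xs pts j m) 65536) (Nat.add (Nat.mul 11 j) m))) h h1 h2) h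

theorem Table.refute_of_chunks {conds : List (List ℕ × ℕ)} {sols : List (ℕ × ℕ)} {len cnt : ℕ}
    (hcov : T.size ≤ len * cnt)
    (h : ∀ c < cnt, T.refuteB n w xs conds sols (len * c) (min (len * (c + 1)) T.size) = true) :
    ∀ j < T.size, T.refuteB n w xs conds sols j (j + 1) = true :=
  of_chunks (P := fun a b => T.refuteB n w xs conds sols a b = true) hcov
    (fun _ _ _ h h1 h2 => allBelow_narrow (f := fun j => allBelow 2 fun e =>
      allB (fun s => !(Nat.beq s.1 j && Nat.beq s.2 e)) sols == false ||
        (Nat.blt (Nat.mod (T.wit j e) 8) conds.length && Nat.blt (Nat.div (T.wit j e) 8) n &&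
          forceN (Nat.div (T.wit j e) 8) fun p =>
            !(Nat.beq (appW w (condCodes xs (signExp e) (T.rep j))
              (condWord (conds.getD (Nat.mod (T.wit j e) 8) ([], 0))) p) p))) h h1 h2) h

end Cfsg.Agent.LeechModel
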