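import Cfsg.Prelude.Def_KGroupFacts
import Cfsg.Agent.StemCert.Bound

/-!
A central extension of a transitive permutation group induced from a central extension of a point
stabiliser.
-/

set_option autoImplicit false

namespace Cfsg.Agent.LeechModel

open scoped commutatorElement

variable {G X E : Type*} [Group G] [Fintype X] [Group E]

/-- The action on functions. -/
noncomputable def indAct (E : Type*) [Group E] (act : G →* Equiv.Perm X) : G →* MulAut (X → E) :=
  MonoidHom.mk' (fun g => MulEquiv.arrowCongr (act g) (MulEquiv.refl E)) fun a b => by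
    ext f q
    show f ((act (a * b))⁻¹ q) = f ((act b)⁻¹ ((act a)⁻¹ q))
    rw [map_mul, mul_inv_rev, Equiv.Perm.mul_apply]

theorem indAct_apply (act : G →* Equiv.Perm X) (g : G) (f : X → E) (q : X) :
    indAct E act g f q = f ((act g)⁻¹ q) := rfl

variable (act : G →* Equiv.Perm X) (r : X → G) (p : E →* G)

/-- The pairs lying over the induced monomial map. -/
noncomputable def indGroup : Subgroup ((X → E) ⋊[indAct E act] G) where
  carrier := {x | ∀ q, r q * p (x.left q) = x.right * r ((act x.right)⁻¹ q)}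
  one_mem' q := by simp
  mul_mem' {x y} hx hy q := by
    rw [SemidirectProduct.mul_left, SemidirectProduct.mul_right, Pi.mul_apply, indAct_apply, map_mul,
      ← mul_assoc, hx, mul_assoc, hy, ← mul_assoc, map_mul, mul_inv_rev, Equiv.Perm.mul_apply]
  inv_mem' {x} hx q := by
    rw [SemidirectProduct.inv_left, SemidirectProduct.inv_right, indAct_apply, Pi.inv_apply, map_inv,
      map_inv, inv_inv]
    have h := hx (act x.right q)
    rw [← Equiv.Perm.mul_apply, inv_mul_cancel, Equiv.Perm.one_apply] at h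
    rw [eq_inv_mul_iff_mul_eq, ← mul_assoc, ← h, mul_inv_cancel_right]

variable {act r p}

theorem mem_indGroup {x : (X → E) ⋊[indAct E act] G} :
    x ∈ indGroup act r p ↔ ∀ q, r q * p (x.left q) = x.right * r ((act x.right)⁻¹ q) := Iff.rfl

/-- The projection. -/
noncomputable def indProj : indGroup act r p →* G :=
  SemidirectProduct.rightHom.comp (indGroup act r p).subtype

theorem coord_mem_ker (x : indGroup act r p) (hx : indProj x = 1) (q : X) : x.1.left q ∈ p.ker := by
  have h := x.2 q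
  rw [show x.1.right = 1 from hx, map_one] at h
  simpa [MonoidHom.mem_ker] using h

theorem coord_mul_of_ker (x y : indGroup act r p) (hx : indProj x = 1) (q : X) :
    (x * y).1.left q = x.1.left q * y.1.left q := by
  show (x.1 * y.1).left q = _
  rw [SemidirectProduct.mul_left, show x.1.right = 1 from hx, map_one]
  rfl

/-- A central extension from a stabiliser gives one of the whole group. -/
theorem exists_induced_extension [Finite G] [Finite E] {ℓ : ℕ} [Fact ℓ.Prime]
    (hlift : ∀ g : G, ∀ q : X, ∃ e : E, r q * p e = g * r ((act g)⁻¹ q))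
    (hcen : p.ker ≤ Subgroup.center E) (hcard : Nat.card p.ker = ℓ)
    (A B : indGroup act r p) (hcomm : indProj A * indProj B = indProj B * indProj A)
    (hval : ∀ v : X → p.ker, (∀ q, (v q : E) = ((A * B) * (B * A)⁻¹).1.left q) →
      ((Finset.univ.toList.map v).prod : p.ker) ≠ 1) :
    ∃ (Γ : Type (max (max u_1 u_2) u_3)) (_ : Group Γ) (_ : Finite Γ) (σ : Γ →* G),
      Cfsg.IsStemExtension σ ∧ Nat.card σ.ker = ℓ := by
  classical
  letI : CommGroup p.ker :=
    { (inferInstance : Group p.ker) with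
      mul_comm := fun a b => Subtype.ext (Subgroup.mem_center_iff.mp (hcen b.2) a) }
  have hsurj : Function.Surjective (indProj (act := act) (r := r) (p := p)) := fun g => by
    choose e he using hlift g
    exact ⟨⟨⟨e, g⟩, he⟩, rfl⟩
  let K := (indProj (act := act) (r := r) (p := p)).ker
  let val : K →* p.ker :=
    { toFun := fun x => ∏ q, (⟨x.1.1.left q, coord_mem_ker x.1 x.2 q⟩ : p.ker)
      map_one' := Finset.prod_eq_one fun q _ => Subtype.ext rfl
      map_mul' := fun x y => by
        rw [← Finset.prod_mul_distrib]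
        exact Finset.prod_congr rfl fun q _ => Subtype.ext (coord_mul_of_ker x.1 y.1 x.2 q) }
  let N := val.ker.map K.subtype
  have hNmem : ∀ {x}, x ∈ N ↔ ∃ h : x ∈ K, val ⟨x, h⟩ = 1 := fun {x} =>
    ⟨by rintro ⟨y, hy, rfl⟩; exact ⟨y.2, hy⟩, fun ⟨h, hv⟩ => ⟨⟨x, h⟩, hv, rfl⟩⟩
  have hconj : ∀ (b x : indGroup act r p) (h : x ∈ K),
      val ⟨b * x * b⁻¹, (inferInstance : K.Normal).conj_mem x h b⟩ = val ⟨x, h⟩ := by
    intro b x h
    refine Fintype.prod_equiv (act b.1.right)⁻¹ _ _ fun q => Subtype.ext ?_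
    show (b.1 * x.1 * b.1⁻¹).left q = x.1.left ((act b.1.right)⁻¹ q)
    have hc := Subgroup.mem_center_iff.mp (hcen (coord_mem_ker x h ((act b.1.right)⁻¹ q)))
    rw [SemidirectProduct.mul_left, SemidirectProduct.mul_left, SemidirectProduct.mul_right,
      show x.1.right = 1 from h, mul_one, SemidirectProduct.inv_left, Pi.mul_apply, Pi.mul_apply]
    simp only [indAct_apply, Pi.inv_apply]
    rw [map_inv act, inv_inv, ← Equiv.Perm.mul_apply, mul_inv_cancel, Equiv.Perm.one_apply]
    rw [hc, mul_assoc, mul_inv_cancel, mul_one]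
  haveI : N.Normal := ⟨fun x hx b => by
    obtain ⟨h, hv⟩ := hNmem.mp hx
    exact hNmem.mpr ⟨_, (hconj b x h).trans hv⟩⟩
  have hNK : N ≤ K := fun x hx => (hNmem.mp hx).1
  let σ : indGroup act r p ⧸ N →* G := QuotientGroup.lift N indProj hNK
  have hkerm : ∀ {y}, y ∈ σ.ker → ∃ x ∈ K, QuotientGroup.mk x = y := fun {y} hy => by
    obtain ⟨x, rfl⟩ := QuotientGroup.mk_surjective y
    exact ⟨x, hy, rfl⟩
  have hσker : σ.ker ≤ Subgroup.center _ := by
    intro y hy
    obtain ⟨x, hx, rfl⟩ := hkerm hy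
    rw [Subgroup.mem_center_iff]
    intro z
    obtain ⟨b, rfl⟩ := QuotientGroup.mk_surjective z
    show QuotientGroup.mk (b * x) = (QuotientGroup.mk (x * b) : indGroup act r p ⧸ N)
    rw [QuotientGroup.eq]
    have e : ((b * x)⁻¹ * (x * b) : indGroup act r p) = x⁻¹ * (b⁻¹ * x * b⁻¹⁻¹) := by group
    rw [e]
    have h2 : b⁻¹ * x * b⁻¹⁻¹ ∈ K := (inferInstance : K.Normal).conj_mem x hx b⁻¹
    refine hNmem.mpr ⟨mul_mem (inv_mem hx) h2, ?_⟩
    show val ((⟨x, hx⟩ : K)⁻¹ * ⟨_, h2⟩) = 1
    rw [map_mul, map_inv, hconj _ x hx, inv_mul_cancel]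
  haveI : Finite (indGroup act r p) :=
    Finite.of_injective (fun x => (x.1.left, x.1.right)) fun a b e =>
      Subtype.ext (SemidirectProduct.ext (congrArg Prod.fst e) (congrArg Prod.snd e))
  -- the witness
  have hD : (A * B) * (B * A)⁻¹ ∈ K := by
    show indProj _ = 1
    rw [map_mul, map_inv, map_mul, map_mul, hcomm, mul_inv_cancel]
  have hw : val ⟨_, hD⟩ ≠ 1 := by
    have := hval (fun q => ⟨_, coord_mem_ker _ hD q⟩) (fun q => rfl)
    rwa [Finset.prod_map_toList] at this
  have hzne : (QuotientGroup.mk ((A * B) * (B * A)⁻¹) : indGroup act r p ⧸ N) ≠ 1 := fun e => by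
    obtain ⟨_, hv⟩ := hNmem.mp ((QuotientGroup.eq_one_iff _).mp e)
    exact hw hv
  have hzker : (QuotientGroup.mk ((A * B) * (B * A)⁻¹) : indGroup act r p ⧸ N) ∈ σ.ker := hD
  -- the kernel
  have hle : Nat.card σ.ker ≤ ℓ := by
    rw [← hcard]
    choose x hx hxe using fun y : σ.ker => hkerm y.2
    refine Nat.card_le_card_of_injective (fun y => val ⟨x y, hx y⟩) fun y y' e => Subtype.ext ?_
    rw [← hxe y, ← hxe y', QuotientGroup.eq]
    refine hNmem.mpr ⟨mul_mem (inv_mem (hx y)) (hx y'), ?_⟩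
    show val ((⟨x y, hx y⟩ : K)⁻¹ * ⟨_, hx y'⟩) = 1
    rw [map_mul, map_inv]
    exact inv_mul_eq_one.mpr e
  have hdvd : ∀ M : Subgroup (indGroup act r p ⧸ N),
      QuotientGroup.mk ((A * B) * (B * A)⁻¹) ∈ M → M ≤ σ.ker → Nat.card M = ℓ := by
    intro M hz hM
    let f : σ.ker →* p.ker :=
      MonoidHom.mk' (fun y => val ⟨(hkerm y.2).choose, (hkerm y.2).choose_spec.1⟩) fun y y' => by
        rw [← map_mul]
        refine inv_mul_eq_one.mp ?_
        rw [← map_inv, ← map_mul]
        have hq : (QuotientGroup.mk ((hkerm (y * y').2).choose) : indGroup act r p ⧸ N) =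
            QuotientGroup.mk ((hkerm y.2).choose * (hkerm y'.2).choose) := by
          rw [QuotientGroup.mk_mul, (hkerm (y * y').2).choose_spec.2, (hkerm y.2).choose_spec.2,
            (hkerm y'.2).choose_spec.2]
          rfl
        obtain ⟨_, hv⟩ := hNmem.mp (QuotientGroup.eq.mp hq)
        exact hv
    have hf : Function.Injective f := by
      intro y y' e
      refine Subtype.ext ?_
      rw [← (hkerm y.2).choose_spec.2, ← (hkerm y'.2).choose_spec.2, QuotientGroup.eq]
      refine hNmem.mpr ⟨mul_mem (inv_mem (hkerm y.2).choose_spec.1) (hkerm y'.2).choose_spec.1, ?_⟩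
      show val ((⟨_, (hkerm y.2).choose_spec.1⟩ : K)⁻¹ * ⟨_, (hkerm y'.2).choose_spec.1⟩) = 1
      rw [map_mul, map_inv]
      exact inv_mul_eq_one.mpr e
    have h1 : Nat.card M ∣ ℓ := by
      refine (Subgroup.card_dvd_of_le hM).trans ?_
      rw [← hcard]
      exact Subgroup.card_dvd_of_injective f hf
    refine ((Nat.dvd_prime Fact.out).mp h1).resolve_left fun h => hzne ?_
    rw [Subgroup.card_eq_one] at h
    rw [h, Subgroup.mem_bot] at hz
    exact hz
  refine ⟨_, inferInstance, inferInstance, σ, ⟨fun g => ?_, hσker, ?_⟩, hdvd σ.ker hzker le_rfl⟩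
  · obtain ⟨x, rfl⟩ := hsurj g
    exact ⟨QuotientGroup.mk x, rfl⟩
  · have h := hdvd (σ.ker ⊓ commutator _) ⟨hzker, ?_⟩ inf_le_left
    · exact inf_eq_left.mp (Subgroup.eq_of_le_of_card_ge inf_le_left (h.symm ▸ hle))
    · have e : (A * B) * (B * A)⁻¹ = ⁅A, B⁆ := by rw [commutatorElement_def]; group
      rw [e, show (QuotientGroup.mk ⁅A, B⁆ : indGroup act r p ⧸ N) =
        ⁅(QuotientGroup.mk A : indGroup act r p ⧸ N), QuotientGroup.mk B⁆ from
          map_commutatorElement (QuotientGroup.mk' N) A B]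
      exact Subgroup.commutator_mem_commutator (Subgroup.mem_top _) (Subgroup.mem_top _)

end Cfsg.Agent.LeechModel
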