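import Mathlib
import Cfsg.Prelude.Def_KGroupFacts

/-!
The outer automorphism group has order two: criterion with an element of order eleven.
-/

set_option autoImplicit false

namespace Cfsg.Agent.LeechModel

variable {G : Type*} [Group G] [Finite G] {x t : G} {τ : MulAut G}

/-- After an inner automorphism an element of order eleven goes to itself or its inverse. -/
theorem exists_conj_to_pm (hx : orderOf x = 11) (hsyl : ¬ 121 ∣ Nat.card G) {h : G}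
    (hh : h * x * h⁻¹ = x ^ 3) (y : G) (hy : orderOf y = 11) :
    ∃ g : G, g * y * g⁻¹ = x ∨ g * y * g⁻¹ = x ^ 10 := by
  have := Fact.mk (show Nat.Prime 11 by norm_num)
  have hs : ∀ q : G, orderOf q = 11 →
      ∃ P : Sylow 11 G, (P : Subgroup G) = Subgroup.zpowers q := by
    intro q hq
    have h1 : IsPGroup 11 (Subgroup.zpowers q) :=
      IsPGroup.of_card (n := 1) (by rw [Nat.card_zpowers, hq, pow_one])
    obtain ⟨P, hP⟩ := h1.exists_le_sylow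
    refine ⟨P, (Subgroup.eq_of_le_of_card_ge hP ?_).symm⟩
    rw [Nat.card_zpowers, hq, P.card_eq_multiplicity]
    calc 11 ^ (Nat.card G).factorization 11 ≤ 11 ^ 1 := by
          refine Nat.pow_le_pow_right (by norm_num) ?_
          by_contra hc
          exact hsyl ((pow_dvd_pow 11 (show 2 ≤ _ by omega)).trans (Nat.ordProj_dvd _ 11))
      _ = 11 := pow_one _
  obtain ⟨P, hP⟩ := hs x hx
  obtain ⟨R, hR⟩ := hs y hy
  obtain ⟨g, hg⟩ := MulAction.exists_smul_eq G R P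
  have hmem : g * y * g⁻¹ ∈ Subgroup.zpowers x := by
    rw [← hP, ← hg, Sylow.coe_subgroup_smul, hR]
    exact Subgroup.smul_mem_pointwise_smul _ (MulAut.conj g) _ (Subgroup.mem_zpowers _)
  obtain ⟨k, hk, e⟩ : ∃ k, k < 11 ∧ x ^ k = g * y * g⁻¹ := by
    obtain ⟨k', e'⟩ := (isOfFinOrder_of_finite x).mem_powers_iff_mem_zpowers.mpr hmem
    exact ⟨k' % 11, Nat.mod_lt _ (by norm_num), by
      change x ^ k' = _ at e'
      rw [← e', ← hx, pow_mod_orderOf]⟩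
  have hk0 : k ≠ 0 := by
    rintro rfl
    have hc : orderOf (g * y * g⁻¹) = 11 :=
      (orderOf_injective (MulAut.conj g).toMonoidHom (MulAut.conj g).injective _).trans hy
    rw [← e, pow_zero, orderOf_one] at hc
    omega
  have hfin : ∀ k : Fin 11, k.val ≠ 0 →
      ∃ j : Fin 5, 3 ^ j.val * k.val % 11 = 1 ∨ 3 ^ j.val * k.val % 11 = 10 := by decide
  obtain ⟨j, hj⟩ := hfin ⟨k, hk⟩ hk0
  have hconj : ∀ i m : ℕ, h ^ i * x ^ m * (h ^ i)⁻¹ = x ^ (3 ^ i * m) := by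
    intro i
    induction i with
    | zero => intro m; simp
    | succ i ih =>
      intro m
      rw [pow_succ, show h ^ i * h * x ^ m * (h ^ i * h)⁻¹ =
        h ^ i * (h * x ^ m * h⁻¹) * (h ^ i)⁻¹ by group, ← conj_pow, hh, ← pow_mul, ih, pow_succ,
        mul_assoc]
  refine ⟨h ^ (j : ℕ) * g, ?_⟩
  have hval : h ^ (j : ℕ) * g * y * (h ^ (j : ℕ) * g)⁻¹ = x ^ (3 ^ (j : ℕ) * k % 11) := by
    rw [show h ^ (j : ℕ) * g * y * (h ^ (j : ℕ) * g)⁻¹ =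
      h ^ (j : ℕ) * (g * y * g⁻¹) * (h ^ (j : ℕ))⁻¹ by group, ← e, hconj, ← hx, pow_mod_orderOf]
  rcases hj with hj | hj
  · exact Or.inl (by rw [hval, hj, pow_one])
  · exact Or.inr (by rw [hval, hj])

/-- The criterion. -/
theorem card_out_eq_two (hgen : Subgroup.closure ({x, t} : Set G) = ⊤) (hx : orderOf x = 11)
    (hsyl : ¬ 121 ∣ Nat.card G) (hnorm : ∃ h : G, h * x * h⁻¹ = x ^ 3)
    (hτx : τ x = x ∨ τ x = x ^ 10)
    (hsol : ∀ φ : MulAut G, φ x = x ∨ φ x = x ^ 10 → ∃ (m : ℕ) (ψ : MulAut G),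
      (ψ = 1 ∨ ψ = τ) ∧ φ x = ψ x ∧ φ t = x ^ m * ψ t * (x ^ m)⁻¹)
    (hτ : ∀ g : G, MulAut.conj g ≠ τ) : Nat.card (Cfsg.Out G) = 2 := by
  obtain ⟨h, hh⟩ := hnorm
  have hall : ∀ φ : MulAut G, ∃ (g : G) (ψ : MulAut G), (ψ = 1 ∨ ψ = τ) ∧ φ = MulAut.conj g * ψ := by
    intro φ
    obtain ⟨g, hg⟩ := exists_conj_to_pm hx hsyl hh (φ x) (by rw [MulEquiv.orderOf_eq, hx])
    obtain ⟨m, ψ, hψ, e1, e2⟩ := hsol (MulAut.conj g * φ) hg
    have hψx : ∃ i : ℕ, ψ x = x ^ i := by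
      rcases hψ with rfl | rfl
      · exact ⟨1, (pow_one x).symm⟩
      · rcases hτx with h1 | h1
        exacts [⟨1, by rw [h1, pow_one]⟩, ⟨10, h1⟩]
    refine ⟨g⁻¹ * x ^ m, ψ, hψ, MulEquiv.toMonoidHom_injective
      (MonoidHom.eq_of_eqOn_dense hgen ?_)⟩
    change g * φ x * g⁻¹ = ψ x at e1
    change g * φ t * g⁻¹ = _ at e2
    rintro q (rfl | rfl)
    · change φ q = g⁻¹ * q ^ m * ψ q * (g⁻¹ * q ^ m)⁻¹
      obtain ⟨i, hi⟩ := hψx
      have hc : q ^ m * ψ q * (q ^ m)⁻¹ = ψ q := by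
        rw [hi, ← pow_add, Nat.add_comm, pow_add, mul_inv_cancel_right]
      calc φ q = g⁻¹ * (g * φ q * g⁻¹) * g := by group
        _ = g⁻¹ * (q ^ m * ψ q * (q ^ m)⁻¹) * g := by rw [e1, hc]
        _ = g⁻¹ * q ^ m * ψ q * (g⁻¹ * q ^ m)⁻¹ := by group
    · change φ q = g⁻¹ * x ^ m * ψ q * (g⁻¹ * x ^ m)⁻¹
      calc φ q = g⁻¹ * (g * φ q * g⁻¹) * g := by group
        _ = g⁻¹ * (x ^ m * ψ q * (x ^ m)⁻¹) * g := by rw [e2]
        _ = g⁻¹ * x ^ m * ψ q * (g⁻¹ * x ^ m)⁻¹ := by group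
  have hinn : ∀ r, MulAut.conj r ∈ Cfsg.Inn G := fun r => ⟨r, rfl⟩
  have hnot : τ ∉ Cfsg.Inn G := fun ⟨r, hr⟩ => hτ r hr
  rw [show Cfsg.Out G = (MulAut G ⧸ Cfsg.Inn G) from rfl, Nat.card_eq_two_iff]
  refine ⟨((1 : MulAut G) : MulAut G ⧸ Cfsg.Inn G), ((τ : MulAut G) : MulAut G ⧸ Cfsg.Inn G), ?_, ?_⟩
  · intro e
    rw [QuotientGroup.eq, inv_one, one_mul] at e
    exact hnot e
  · refine Set.eq_univ_of_forall fun q => ?_
    obtain ⟨φ, rfl⟩ := QuotientGroup.mk_surjective q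
    obtain ⟨g, ψ, hψ, rfl⟩ := hall φ
    have key : ((MulAut.conj g * ψ : MulAut G) : MulAut G ⧸ Cfsg.Inn G) = (ψ : MulAut G ⧸ Cfsg.Inn G) := by
      rw [QuotientGroup.mk_mul, (QuotientGroup.eq_one_iff _).mpr (hinn g), one_mul]
    rcases hψ with rfl | rfl
    · exact Or.inl key
    · exact Or.inr key

end Cfsg.Agent.LeechModel
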