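import Cfsg.Agent.LeechModel.Involutions

/-!
A Sylow two-subgroup given by its list of elements.
-/

set_option autoImplicit false

namespace Cfsg.Agent.LeechModel

open Cfsg.Agent.Compute Cfsg.Agent.StemCert

variable {n w k : ℕ} {G : Type*} [Group G] [Finite G] {ι : G →* Equiv.Perm (Fin n)} {gen : ℕ → G}
  {cs pts : List ℕ}

/-- The subgroup generated by the listed words has exactly the listed elements. -/
theorem table_closure (hc : Coded (w := w) (k := k) ι gen cs) (hb : IsBase ι pts)
    {els gens : List (List ℕ)} {next : List (List ℕ)} {tree : List (ℕ × ℕ)}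
    {kinds : List (ℕ × List ℕ)} {tgts : List (List ℕ)}
    (le : lettersB k els = true) (lg : lettersB k gens = true) (hpos : 0 < els.length)
    (h0 : els.getD 0 [] = []) (hkeys : (els.map (wordKey w cs pts)).Nodup)
    (h : ∀ i < els.length, syl2B w cs pts els gens next tree kinds tgts i = true) :
    ((Subgroup.closure ((fun g => evalW gen (gens.getD g [])) '' {g | g < gens.length}) : Subgroup G) : Set G) =
        Set.range (fun i : Fin els.length => evalW gen (els.getD i [])) ∧
      Function.Injective (fun i : Fin els.length => evalW gen (els.getD i [])) := by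
  classical
  have hl : ∀ (ls : List (List ℕ)), lettersB k ls = true → ∀ i, ∀ s ∈ ls.getD i [], s < k := by
    intro ls hls i s hs
    by_cases hi : i < ls.length
    · rw [List.getD_eq_getElem _ _ hi] at hs
      exact Nat.blt_eq.mp (allB_spec (allB_spec hls _ (List.getElem_mem hi)) s hs)
    · rw [List.getD_eq_default _ _ (by omega)] at hs
      simp at hs
  let el : Fin els.length → G := fun i => evalW gen (els.getD i [])
  let ge : ℕ → G := fun g => evalW gen (gens.getD g [])
  refine ⟨?_, ?_⟩
  rotate_left
  · intro i j e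
    have hi : (i : ℕ) < (els.map (wordKey w cs pts)).length := by rw [List.length_map]; exact i.2
    have hj : (j : ℕ) < (els.map (wordKey w cs pts)).length := by rw [List.length_map]; exact j.2
    refine Fin.ext ((hkeys.getElem_inj_iff (hi := hi) (hj := hj)).mp ?_)
    rw [List.getElem_map, List.getElem_map, ← List.getD_eq_getElem els [] i.2,
      ← List.getD_eq_getElem els [] j.2]
    have : ∀ p ∈ pts, appW w cs (els.getD i []) p = appW w cs (els.getD j []) p := fun p hp => by
      rw [← appW_spec hc _ (hl els le i) ⟨p, hb.1 p hp⟩, ← appW_spec hc _ (hl els le j) ⟨p, hb.1 p hp⟩]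
      show (ι (el i) _ : ℕ) = (ι (el j) _ : ℕ)
      rw [show el i = el j from e]
    clear hi hj hb hkeys h
    induction pts with
    | nil => rfl
    | cons p ps ih =>
      show Nat.add (appW w cs (els.getD i []) p) (Nat.shiftLeft (wordKey w cs ps (els.getD i [])) w) =
        Nat.add (appW w cs (els.getD j []) p) (Nat.shiftLeft (wordKey w cs ps (els.getD j [])) w)
      rw [this p (by simp), ih fun q hq => this q (List.mem_cons_of_mem _ hq)]
  have hstep : ∀ i : Fin els.length, ∀ g < gens.length,
      ∃ j : Fin els.length, (next.getD i []).getD g 0 = j ∧ ge g * el i = el j := by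
    intro i g hg
    have hi := h i i.2
    simp only [syl2B, Bool.and_eq_true] at hi
    have hg' := allBelow_eq_true.mp hi.1 g hg
    simp only [Bool.and_eq_true, Nat.blt_eq] at hg'
    refine ⟨⟨_, hg'.1⟩, rfl, ?_⟩
    have := eq_of_eqOn hc hb (a := gens.getD g [] ++ els.getD i [])
      (fun s hs => (List.mem_append.mp hs).elim (hl gens lg g s) (hl els le i s))
      (hl els le _) hg'.2
    rwa [evalW_append] at this
  have hmem : ∀ i (hi : i < els.length), el ⟨i, hi⟩ ∈ Subgroup.closure (ge '' {g | g < gens.length}) := by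
    intro i
    induction i using Nat.strong_induction_on with
    | _ i ih =>
      intro hi
      have hh := h i hi
      simp only [syl2B, Bool.and_eq_true, Bool.or_eq_true, Nat.beq_eq, Nat.blt_eq] at hh
      rcases hh.2 with rfl | ⟨⟨⟨hp, hg⟩, he⟩, -⟩
      · show evalW gen (els.getD 0 []) ∈ _
        rw [h0]; exact one_mem _
      · obtain ⟨j, hj, e⟩ := hstep ⟨_, hp.trans hi⟩ _ hg
        have : j = ⟨i, hi⟩ := Fin.ext (hj.symm.trans he)
        rw [← this, ← e]
        exact mul_mem (Subgroup.subset_closure ⟨_, hg, rfl⟩) (ih _ hp (hp.trans hi))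
  refine Set.Subset.antisymm (fun z hz => ?_) (by rintro _ ⟨i, rfl⟩; exact hmem i i.2)
  have key : ∀ g < gens.length, ∀ y ∈ Set.range el, ge g * y ∈ Set.range el := by
    rintro g hg _ ⟨i, rfl⟩
    obtain ⟨j, -, e⟩ := hstep i g hg
    exact ⟨j, e.symm⟩
  refine Subgroup.closure_induction_left (p := fun z _ => z ∈ Set.range el)
    ⟨⟨0, hpos⟩, by show evalW gen (els.getD 0 []) = 1; rw [h0]; rfl⟩ ?_ ?_ hz
  · rintro _ ⟨g, hg, rfl⟩ y _ hy
    exact key g hg y hy
  · rintro _ ⟨g, hg, rfl⟩ y _ ⟨i, rfl⟩
    have hinj' : Function.Injective fun v : Set.range el => (⟨ge g * v, key g hg v v.2⟩ : Set.range el) :=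
      fun u v e => Subtype.ext (mul_left_cancel (congrArg Subtype.val e))
    obtain ⟨⟨v, hv⟩, e⟩ := Finite.injective_iff_surjective.mp hinj' ⟨el i, i, rfl⟩
    have e' : ge g * v = el i := congrArg Subtype.val e
    rw [← e']
    simpa [ge] using hv

end Cfsg.Agent.LeechModel
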